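import Cfsg.Agent.H39.Fi22Invol.Chain
import Cfsg.Agent.H39.Fi22Invol.Data.Cols

/-!
The three outer involutions on the points, and the numbers of points they fix.
-/

set_option autoImplicit false
set_option maxRecDepth 100000

namespace Cfsg.Agent.H39.Fi22Invol

open Cfsg.Agent.H45 Cfsg.Agent.H46.Fi22Out

/-- the arm swap on the points -/
noncomputable def sigN (x : ℕ) : ℕ := cget Data.sigC x

/-- the first member on the points -/
noncomputable def taN (x : ℕ) : ℕ := cget Data.taC x

/-- the second member on the points -/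
noncomputable def tbN (x : ℕ) : ℕ := cget Data.tbC x

/-- the second automorphism on the points -/
noncomputable def saN (x : ℕ) : ℕ := sigN (taN x)

/-- the third automorphism on the points -/
noncomputable def sabN (x : ℕ) : ℕ := sigN (taN (tbN x))

theorem sig_zero : Nat.beq (sigN 0) (pt (Data.cu.getD 6 [])) = true := by decide +kernel

theorem sig_step : ((List.range 9).all fun l => allLt (fun x =>
    Nat.beq (sigN (cget (cols.getD l 0) x)) (cget (cols.getD (swp l) 0) (sigN x))) 3510) = true := by
  decide +kernel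

theorem ta_ok : allLt (fun x => Nat.beq (taN x) (wk (conjW Data.ua) x)) 3510 = true := by
  decide +kernel

theorem tb_ok : allLt (fun x => Nat.beq (tbN x) (wk (conjW Data.ub) x)) 3510 = true := by
  decide +kernel

theorem uab_ok : (ltW Data.ua && ltW Data.ub && Nat.beq (sigN (pt Data.ua)) (pt Data.ua) &&
    Nat.beq (sigN (pt Data.ub)) (pt Data.ub) && adjb Data.ua (pt Data.ub) &&
    !Nat.beq (pt Data.ua) (pt Data.ub)) = true := by decide +kernel

theorem ρ_letter {l : ℕ} (hl : l < 9) (x : Pt) : (ρ (e l) x : ℕ) = cget (cols.getD l 0) x := by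
  have h1 := hρ.walk (w := [l]) (by simpa using hl) x
  simpa [evalW, cw, walkC, force_eq, ← map_inv, e_inv'] using h1

theorem sigma_letter {l : ℕ} (hl : l < 9) : sigma (e l) = e (swp l) := by
  show sigmaHom (e l) = e (swp l)
  interval_cases l <;> exact sigmaHom_of _

theorem perm_sigma (x : Pt) : (perm sigma x : ℕ) = sigN x := by
  have h6 : perm sigma 0 = letter 6 := perm_eq (by
    rw [mem_zero, sigma_letter (by norm_num), ← e_letter (by norm_num)]; rfl)
  let good : Pt → Prop := fun x => (perm sigma x : ℕ) = sigN x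
  have hstep : ∀ l < 9, ∀ x, good x → good (ρ (e l) x) := by
    intro l hl x hx
    have hs := allLt_sound (List.all_eq_true.mp sig_step l (List.mem_range.mpr hl)) x x.isLt
    have hl' : swp l < 9 := by interval_cases l <;> decide
    show (perm sigma (ρ (e l) x) : ℕ) = _
    rw [perm_ρ, sigma_letter hl, ρ_letter hl', hx, ρ_letter hl]
    exact (Nat.eq_of_beq_eq_true hs).symm
  let K : Subgroup G :=
    { carrier := {g | ∀ x, good (ρ g x) ↔ good x}
      mul_mem' := fun {g h} hg hh x => by
        rw [map_mul, Equiv.Perm.mul_apply, hg, hh]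
      one_mem' := fun x => by rw [map_one]; rfl
      inv_mem' := fun {g} hg x => by
        have := hg (ρ g⁻¹ x)
        rw [← Equiv.Perm.mul_apply, ← map_mul, mul_inv_cancel, map_one, Equiv.Perm.one_apply] at this
        exact this.symm }
  have hK : K = ⊤ := by
    refine top_le_iff.mp (closure_letters ▸ (Subgroup.closure_le K).mpr ?_)
    rintro _ ⟨l, hl, rfl⟩ x
    refine ⟨fun h => ?_, hstep l hl x⟩
    have := hstep l hl _ h
    rwa [← Equiv.Perm.mul_apply, ← map_mul, e_sq, map_one, Equiv.Perm.one_apply] at this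
  obtain ⟨g, rfl⟩ := hρ.trans x
  have : g ∈ K := hK ▸ Subgroup.mem_top g
  refine (this 0).mpr ?_
  show (perm sigma 0 : ℕ) = _
  rw [h6, letter, ptF_val (ltW_cu 6)]
  exact (Nat.eq_of_beq_eq_true sig_zero).symm

theorem ua_lt : ltW Data.ua = true := by
  have := uab_ok; simp only [Bool.and_eq_true] at this; exact this.1.1.1.1.1

theorem ub_lt : ltW Data.ub = true := by
  have := uab_ok; simp only [Bool.and_eq_true] at this; exact this.1.1.1.1.2

/-- the first member -/
noncomputable def ma : G := mem (ptF Data.ua)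

/-- the second member -/
noncomputable def mb : G := mem (ptF Data.ub)

/-- the second automorphism -/
noncomputable def sa : MulAut G := sigma * MulAut.conj ma

/-- the third automorphism -/
noncomputable def sab : MulAut G := sigma * MulAut.conj (ma * mb)

theorem perm_ta (x : Pt) : (ρ ma x : ℕ) = taN x := by
  rw [ma, wk_conjW ua_lt]
  exact (Nat.eq_of_beq_eq_true (allLt_sound ta_ok x x.isLt)).symm

theorem perm_tb (x : Pt) : (ρ mb x : ℕ) = tbN x := by
  rw [mb, wk_conjW ub_lt]
  exact (Nat.eq_of_beq_eq_true (allLt_sound tb_ok x x.isLt)).symm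

theorem perm_sa (x : Pt) : (perm sa x : ℕ) = saN x := by
  rw [sa, perm_mul, perm_sigma, perm_conj, perm_ta]; rfl

theorem perm_sab (x : Pt) : (perm sab x : ℕ) = sabN x := by
  rw [sab, perm_mul, perm_sigma, map_mul, perm_mul, perm_conj, perm_conj, perm_ta, perm_tb]; rfl

theorem sigma_ma : sigma ma = ma := by
  have := uab_ok
  simp only [Bool.and_eq_true, Nat.beq_eq] at this
  rw [ma, perm_spec]
  exact congrArg mem (Fin.ext (by rw [perm_sigma, ptF_val ua_lt]; exact this.1.1.1.2))

theorem sigma_mb : sigma mb = mb := by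
  have := uab_ok
  simp only [Bool.and_eq_true, Nat.beq_eq] at this
  rw [mb, perm_spec]
  exact congrArg mem (Fin.ext (by rw [perm_sigma, ptF_val ub_lt]; exact this.1.1.2))

theorem comm_ab : Commute ma mb := by
  have := uab_ok
  simp only [Bool.and_eq_true] at this
  rw [ma, mb, comm_iff]
  exact (adjb_iff ua_lt _).mp (by rw [ptF_val ub_lt]; exact this.1.2)

theorem ma_ne_mb : ma ≠ mb := by
  intro h
  have := uab_ok
  simp only [Bool.and_eq_true, Bool.not_eq_true', ← Bool.not_eq_true, Nat.beq_eq] at this
  exact this.2 (by rw [← ptF_val ua_lt, ← ptF_val ub_lt, mem_inj h])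

theorem sigma_sq : sigma * sigma = 1 :=
  MulEquiv.ext fun x => DFunLike.congr_fun sigmaHom_sigmaHom x

theorem twist_sq {k : G} (hk : sigma k = k) (hk2 : k * k = 1) :
    sigma * MulAut.conj k * (sigma * MulAut.conj k) = 1 := by
  refine MulEquiv.ext fun x => ?_
  simp only [MulAut.mul_apply, MulAut.conj_apply, map_mul, map_inv, hk, MulAut.one_apply]
  have h1 : sigma (sigma x) = x := DFunLike.congr_fun sigma_sq x
  rw [h1]
  simp only [mul_inv_cancel_right]
  rw [show k * (k * x * k⁻¹) * k⁻¹ = (k * k) * x * (k * k)⁻¹ by group, hk2, one_mul, inv_one,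
    mul_one]

theorem sa_sq : sa * sa = 1 := twist_sq sigma_ma (mem_sq _)

theorem ab_sq : ma * mb * (ma * mb) = 1 := by
  rw [mul_assoc, ← mul_assoc mb, ← comm_ab.eq, mul_assoc ma mb mb, show mb * mb = 1 from mem_sq _,
    mul_one, show ma * ma = 1 from mem_sq _]

theorem sab_sq : sab * sab = 1 :=
  twist_sq (by rw [map_mul, sigma_ma, sigma_mb]) ab_sq

theorem not_inner_mul {k : G} : sigma * MulAut.conj k ∉ (MulAut.conj : G →* MulAut G).range := by
  rintro ⟨x, hx⟩
  refine sigma_not_inner ⟨x * k⁻¹, ?_⟩
  rw [map_mul, hx, map_inv, mul_inv_cancel_right]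

/-- the number of points fixed by a map -/
noncomputable def nfix (f : ℕ → ℕ) : ℕ :=
  (Finset.univ.filter fun x : Pt => Nat.beq (f x.1) x.1 = true).card

theorem count_sig : nfix sigN = 360 := by decide +kernel

theorem count_sa : nfix saN = 64 := by decide +kernel

theorem count_sab : nfix sabN = 72 := by decide +kernel

theorem nfix_eq {α : MulAut G} {f : ℕ → ℕ} (h : ∀ x : Pt, (perm α x : ℕ) = f x) :
    (Finset.univ.filter fun x : Pt => perm α x = x).card = nfix f := by
  rw [nfix]
  refine congrArg Finset.card (Finset.filter_congr fun x _ => ?_)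
  rw [Nat.beq_eq, ← h, Fin.val_inj]

theorem isConj_count {α β : MulAut G} (h : IsConj α β) :
    (Finset.univ.filter fun x : Pt => perm α x = x).card =
      (Finset.univ.filter fun x : Pt => perm β x = x).card := by
  classical
  obtain ⟨γ, rfl⟩ := isConj_iff.mp h
  refine Finset.card_bij (fun x _ => perm γ x) (fun x hx => ?_) (fun x _ y _ h => perm_inj γ h)
    (fun y hy => ⟨perm γ⁻¹ y, ?_, perm_apply_inv γ y⟩)
  · simp only [Finset.mem_filter, Finset.mem_univ, true_and] at hx ⊢
    rw [perm_mul, perm_mul, perm_inv_apply, hx]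
  · simp only [Finset.mem_filter, Finset.mem_univ, true_and] at hy ⊢
    rw [perm_mul, perm_mul] at hy
    conv_rhs => rw [← hy, perm_inv_apply]

theorem not_conj : ¬ IsConj sigma sa ∧ ¬ IsConj sigma sab ∧ ¬ IsConj sa sab := by
  refine ⟨fun h => ?_, fun h => ?_, fun h => ?_⟩ <;> have := isConj_count h
  · rw [nfix_eq perm_sigma, nfix_eq perm_sa, count_sig, count_sa] at this; omega
  · rw [nfix_eq perm_sigma, nfix_eq perm_sab, count_sig, count_sab] at this; omega
  · rw [nfix_eq perm_sa, nfix_eq perm_sab, count_sa, count_sab] at this; omega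

end Cfsg.Agent.H39.Fi22Invol
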