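import Cfsg.Agent.H46.Fi22Out.Main

/-!
`Fi₂₂` on the table of degree 3510: the points are the members of the class of the first generator,
and every automorphism permutes them.
-/

set_option autoImplicit false
set_option maxRecDepth 100000

namespace Cfsg.Agent.H39.Fi22Invol

open Cfsg.Agent.H45 Cfsg.Agent.H46.Fi22Out

/-- the points -/
abbrev Pt : Type := Fin 3510

/-- the representation -/
noncomputable def ρ : G →* Equiv.Perm Pt := exists_rep.choose

theorem hρ : Rep ρ := exists_rep.choose_spec

/-- the member of a point -/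
noncomputable def mem (x : Pt) : G := cj (hρ.trans x).choose

theorem cj_eq_mem {g : G} {x : Pt} (h : ρ g 0 = x) : cj g = mem x :=
  (hρ.cj_eq _ _).mp (h.trans (hρ.trans x).choose_spec.symm)

theorem cj_mem (g : G) : cj g = mem (ρ g 0) := cj_eq_mem rfl

theorem mem_inj : Function.Injective mem := fun x y h => by
  have := (hρ.cj_eq _ _).mpr h
  rwa [(hρ.trans x).choose_spec, (hρ.trans y).choose_spec] at this

theorem mem_zero : mem 0 = e 0 := by
  rw [← cj_eq_mem (g := 1) (by rw [map_one]; rfl), cj_one]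

theorem mem_sq (x : Pt) : mem x * mem x = 1 := cj_sq _

theorem mem_inv (x : Pt) : (mem x)⁻¹ = mem x := cj_inv _

theorem conj_mem (g : G) (x : Pt) : g * mem x * g⁻¹ = mem (ρ g x) := by
  obtain ⟨h, rfl⟩ := hρ.trans x
  rw [← cj_mem, ← cj_mul]
  exact cj_eq_mem (by rw [map_mul, Equiv.Perm.mul_apply])

theorem comm_iff (g : G) (x : Pt) : Commute g (mem x) ↔ ρ g x = x := by
  constructor
  · intro h
    refine mem_inj ?_
    rw [← conj_mem, h.eq, mul_inv_cancel_right]
  · intro h
    have := conj_mem g x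
    rw [h, mul_inv_eq_iff_eq_mul] at this
    exact this

theorem mem_fix (x : Pt) : ρ (mem x) x = x := (comm_iff _ _).mp (Commute.refl _)

theorem adj_symm {x y : Pt} (h : ρ (mem x) y = y) : ρ (mem y) x = x :=
  (comm_iff _ _).mp ((comm_iff _ _).mpr h).symm

theorem mem_mem (x y : Pt) : ρ (mem x) (ρ (mem x) y) = y := by
  rw [← Equiv.Perm.mul_apply, ← map_mul, mem_sq, map_one]; rfl

/-- the word of a list of members -/
def pW (us : List (List ℕ)) : List ℕ := us.flatMap conjW

/-- follow a word -/
noncomputable def wk (w : List ℕ) (x : ℕ) : ℕ := walkC (cw cols w) x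

/-- the point of a word -/
noncomputable def pt (u : List ℕ) : ℕ := wk u 0

/-- all letters are below nine -/
def ltW (w : List ℕ) : Bool := w.all fun l => Nat.blt l 9

theorem wk_rep {w : List ℕ} (hw : ltW w = true) (x : Pt) :
    ((ρ (evalW e w)⁻¹ x : Pt) : ℕ) = wk w x := by
  rw [map_inv]; exact hρ.walk (lt_of_all hw) x

theorem wk_lt {w : List ℕ} (hw : ltW w = true) (x : Pt) : wk w x < 3510 := by
  rw [← wk_rep hw]; exact Fin.isLt _

theorem pt_lt {u : List ℕ} (hu : ltW u = true) : pt u < 3510 := wk_lt hu 0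

/-- the point of a word, in the table -/
noncomputable def ptF (u : List ℕ) : Pt := ρ (evalW e u)⁻¹ 0

theorem ptF_val {u : List ℕ} (hu : ltW u = true) : (ptF u : ℕ) = pt u := wk_rep hu 0

theorem mem_word {u : List ℕ} : evalW e (conjW u) = mem (ptF u) := by
  rw [evalW_conjW, TT, cj_mem, ptF]

theorem ltW_conjW {u : List ℕ} (hu : ltW u = true) : ltW (conjW u) = true := by
  simp only [ltW, List.all_eq_true, Nat.blt_eq] at hu ⊢
  exact conjW_lt hu

theorem ltW_pW {us : List (List ℕ)} (hu : us.all ltW = true) : ltW (pW us) = true := by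
  simp only [ltW, List.all_eq_true, Nat.blt_eq, pW, List.mem_flatMap]
  rintro l ⟨u, hu', hl⟩
  exact conjW_lt (lt_of_all (List.all_eq_true.mp hu u hu')) l hl

theorem evalW_pW : ∀ us : List (List ℕ), evalW e (pW us) = (us.map fun u => mem (ptF u)).prod
  | [] => rfl
  | u :: us => by
    rw [pW, List.flatMap_cons, evalW_append, mem_word, List.map_cons, List.prod_cons]
    exact congrArg _ (evalW_pW us)

theorem wk_conjW {u : List ℕ} (hu : ltW u = true) (y : Pt) :
    ((ρ (mem (ptF u)) y : Pt) : ℕ) = wk (conjW u) y := by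
  rw [← wk_rep (ltW_conjW hu), mem_word, mem_inv]

/-- the member of a word fixes a point -/
theorem adj_iff {u : List ℕ} (hu : ltW u = true) (y : Pt) :
    ρ (mem (ptF u)) y = y ↔ Nat.beq (wk (conjW u) y) y = true := by
  rw [Nat.beq_eq, ← wk_conjW hu, Fin.val_inj]

/-- the point of a letter -/
noncomputable def letter (l : ℕ) : Pt := ptF (Data.cu.getD l [])

theorem ltW_cu (l : ℕ) : ltW (Data.cu.getD l []) = true := by
  simp only [ltW, List.all_eq_true, Nat.blt_eq]; exact cu_lt' l

theorem e_letter {l : ℕ} (hl : l < 9) : e l = mem (letter l) := by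
  rw [hρ.e_eq_TT hl, letter, ← mem_word, evalW_conjW]

theorem eq_one_of_fix {g : G} (h : ∀ l < 9, ρ g (letter l) = letter l) : g = 1 := by
  have hc : ∀ x : G, g * x = x * g := fun x => by
    have hx : x ∈ Subgroup.closure {y | ∃ l < 9, e l = y} := by rw [closure_letters]; trivial
    refine Subgroup.mem_centralizer_singleton_iff.mp ?_ |>.symm
    refine (Subgroup.closure_le (K := Subgroup.centralizer ({g} : Set G))).mpr ?_ hx
    rintro _ ⟨l, hl, rfl⟩
    rw [SetLike.mem_coe, Subgroup.mem_centralizer_singleton_iff]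
    have := (comm_iff g (letter l)).mpr (h l hl)
    rw [← e_letter hl] at this
    exact this.eq.symm
  refine hρ.inj ?_
  rw [map_one]
  refine Equiv.ext fun x => ?_
  rw [Equiv.Perm.one_apply]
  exact (comm_iff g x).mp (hc _)

theorem conj_injective : Function.Injective (MulAut.conj : G →* MulAut G) := by
  refine (injective_iff_map_eq_one _).mpr fun g hg => eq_one_of_fix fun l _ => (comm_iff _ _).mp ?_
  have := DFunLike.congr_fun hg (mem (letter l))
  rw [MulAut.conj_apply, MulAut.one_apply, mul_inv_eq_iff_eq_mul] at this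
  exact this

theorem image_move (g : G) (p q : Pt) : ρ (mem (ρ g p)) (ρ g q) = ρ g (ρ (mem p) q) := by
  rw [← conj_mem, map_mul, map_mul, map_inv, Equiv.Perm.mul_apply, Equiv.Perm.mul_apply,
    Equiv.Perm.inv_def, Equiv.symm_apply_apply]

/-- two members which do not commute generate the symmetric group of degree three -/
theorem braid {x y : Pt} (h : ρ (mem x) y ≠ y) : ρ (mem x) y = ρ (mem y) x := by
  have key : ∀ z : Pt, ρ (mem 0) z ≠ z → ρ (mem 0) z = ρ (mem z) 0 := by
    intro z hz
    have hp : pt (Data.cu.getD 1 []) < 3510 := pt_lt (ltW_cu 1)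
    have hcget : ∀ w : Pt, (ρ (e 0) w : ℕ) = cget (cols.getD 0 0) w := by
      intro w
      have h1 := hρ.walk (w := [0]) (by simp) w
      simpa [evalW, cw, walkC, force_eq, ← map_inv, e_inv'] using h1
    obtain ⟨bs, hbs, hb, k, hk, hkz⟩ := hρ.reach Fi22Main.H subW_lt
      (fun w hw => Subgroup.subset_closure ⟨w, hw, rfl⟩) stR_ok z (by
        simp only [Bool.not_eq_true', ← Bool.not_eq_true, Nat.beq_eq, ← hcget]
        rw [mem_zero] at hz
        exact fun q => hz (Fin.ext q))
    rw [List.mem_singleton] at hbs; subst hbs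
    have h0 : ρ k 0 = 0 := (hρ.stab k).mpr hk
    have hcert : wk (conjW (Data.cu.getD 1 [])) 0 = cget (cols.getD 0 0) pb := by decide +kernel
    have hpb : ρ (mem 0) ⟨pb, hb⟩ = ρ (mem ⟨pb, hb⟩) 0 := by
      have e1 : (⟨pb, hb⟩ : Pt) = ptF (Data.cu.getD 1 []) := Fin.ext (ptF_val (ltW_cu 1)).symm
      refine Fin.ext ?_
      rw [mem_zero, hcget, e1, wk_conjW (ltW_cu 1), ptF_val (ltW_cu 1)]
      exact hcert.symm
    calc ρ (mem 0) z = ρ (mem (ρ k 0)) (ρ k ⟨pb, hb⟩) := by rw [h0, hkz]
      _ = ρ k (ρ (mem ⟨pb, hb⟩) 0) := by rw [image_move, hpb]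
      _ = ρ (mem (ρ k ⟨pb, hb⟩)) (ρ k 0) := (image_move _ _ _).symm
      _ = ρ (mem z) 0 := by rw [hkz, h0]
  obtain ⟨g, rfl⟩ := hρ.trans x
  set z := ρ g⁻¹ y with hzdef
  have hy : y = ρ g z := by rw [hzdef, ← Equiv.Perm.mul_apply, ← map_mul, mul_inv_cancel, map_one]; rfl
  have hgmul := image_move g
  rw [hy, hgmul] at h
  rw [hy, hgmul, hgmul]
  exact congrArg _ (key z fun q => h (congrArg _ q))

/-- the members of two points not fixing each other -/
theorem braid_mul {x y : Pt} (h : ρ (mem x) y ≠ y) :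
    mem x * mem y * mem x = mem y * mem x * mem y := by
  have := congrArg mem (braid h)
  rwa [← conj_mem, ← conj_mem, mem_inv, mem_inv] at this

/-! ### automorphisms -/

theorem exists_perm (α : MulAut G) (x : Pt) : ∃ y, α (mem x) = mem y := by
  obtain ⟨z, hz⟩ := hρ.auto_class α
  obtain ⟨g, rfl⟩ := hρ.trans x
  refine ⟨ρ (α g * z) 0, ?_⟩
  rw [← cj_mem, ← cj_mem, cj, map_mul, map_mul, map_inv, hz]
  exact (cj_mul _ _).symm

/-- the permutation of an automorphism -/
noncomputable def perm (α : MulAut G) (x : Pt) : Pt := (exists_perm α x).choose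

theorem perm_spec (α : MulAut G) (x : Pt) : α (mem x) = mem (perm α x) :=
  (exists_perm α x).choose_spec

theorem perm_eq {α : MulAut G} {x y : Pt} (h : α (mem x) = mem y) : perm α x = y :=
  mem_inj ((perm_spec α x).symm.trans h)

theorem perm_mul (α β : MulAut G) (x : Pt) : perm (α * β) x = perm α (perm β x) :=
  perm_eq (by rw [MulAut.mul_apply, perm_spec, perm_spec])

theorem perm_one (x : Pt) : perm 1 x = x := perm_eq rfl

theorem perm_conj (g : G) (x : Pt) : perm (MulAut.conj g) x = ρ g x :=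
  perm_eq (by rw [MulAut.conj_apply, conj_mem])

theorem perm_inj (α : MulAut G) : Function.Injective (perm α) := fun x y h => mem_inj <|
  α.injective (by rw [perm_spec, perm_spec, h])

theorem perm_inv_apply (α : MulAut G) (x : Pt) : perm α⁻¹ (perm α x) = x := by
  rw [← perm_mul, inv_mul_cancel, perm_one]

theorem perm_apply_inv (α : MulAut G) (x : Pt) : perm α (perm α⁻¹ x) = x := by
  rw [← perm_mul, mul_inv_cancel, perm_one]

theorem perm_move (α : MulAut G) (x y : Pt) :
    perm α (ρ (mem x) y) = ρ (mem (perm α x)) (perm α y) := by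
  refine perm_eq ?_
  rw [← conj_mem, ← conj_mem, map_mul, map_mul, map_inv, perm_spec, perm_spec]

theorem perm_ρ (α : MulAut G) (g : G) (x : Pt) : perm α (ρ g x) = ρ (α g) (perm α x) := by
  refine perm_eq ?_
  rw [← conj_mem, ← conj_mem, map_mul, map_mul, map_inv, perm_spec]

theorem perm_adj (α : MulAut G) (x y : Pt) :
    ρ (mem (perm α x)) (perm α y) = perm α y ↔ ρ (mem x) y = y := by
  rw [← perm_move]
  exact ⟨fun h => perm_inj α h, fun h => congrArg _ h⟩

theorem perm_ext {α β : MulAut G} (h : ∀ l < 9, perm α (letter l) = perm β (letter l)) : α = β := by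
  refine auto_ext fun l hl => ?_
  rw [e_letter hl, perm_spec, perm_spec, h l hl]

theorem eq_one_of_perm {α : MulAut G} (h : ∀ l < 9, perm α (letter l) = letter l) : α = 1 :=
  perm_ext fun l hl => by rw [h l hl, perm_one]

/-- conjugation by the inverse of a word -/
noncomputable def Aw (w : List ℕ) : MulAut G := MulAut.conj (evalW e w)⁻¹

theorem perm_Aw {w : List ℕ} (hw : ltW w = true) (x : Pt) : (perm (Aw w) x : ℕ) = wk w x := by
  rw [Aw, perm_conj, wk_rep hw]

theorem Aw_inner (w : List ℕ) : Aw w ∈ (MulAut.conj : G →* MulAut G).range := ⟨_, rfl⟩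

end Cfsg.Agent.H39.Fi22Invol
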