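import Cfsg.Agent.H39.Fi22Invol.Checks.Elem
import Cfsg.Agent.H39.Fi22Invol.Checks.Tree

/-!
Involutory automorphisms leaving a base of 22 invariant: their action on the base, up to conjugation,
and their classes.
-/

set_option autoImplicit false
set_option maxRecDepth 100000

namespace Cfsg.Agent.H39.Fi22Invol

open Cfsg.Agent.H45 Cfsg.Agent.H46.Fi22Out

/-- the points of the base -/
noncomputable def bpt (i : Fin 22) : Pt := ptF (Data.b0W.getD i.1 [])

theorem b0_len : Data.b0W.length = 22 := by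
  have h := b0_facts.1
  simp only [Bool.and_eq_true, Nat.beq_eq] at h
  exact h.2

theorem b0_lt {u : List ℕ} (hu : u ∈ Data.b0W) : ltW u = true := by
  have h := b0_facts.1
  simp only [Bool.and_eq_true] at h
  exact List.all_eq_true.mp h.1 u hu

theorem b0_mem (i : Fin 22) : Data.b0W.getD i.1 [] ∈ Data.b0W := by
  rw [List.getD_eq_getElem _ _ (by rw [b0_len]; exact i.2)]
  exact List.getElem_mem _

theorem bpt_val (i : Fin 22) : (bpt i : ℕ) = pt (Data.b0W.getD i.1 []) := ptF_val (b0_lt (b0_mem i))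

theorem exists_bpt {u : List ℕ} (hu : u ∈ Data.b0W) : ∃ i : Fin 22, bpt i = ptF u := by
  obtain ⟨k, hk, rfl⟩ := List.getElem_of_mem hu
  have hk' : k < 22 := by rwa [b0_len] at hk
  exact ⟨⟨k, hk'⟩, by rw [bpt, List.getD_eq_getElem]⟩

theorem bpt_inj : Function.Injective bpt := by
  intro i j h
  have hi : i.1 < (Data.b0W.map pt).length := by rw [List.length_map, b0_len]; exact i.2
  have hj : j.1 < (Data.b0W.map pt).length := by rw [List.length_map, b0_len]; exact j.2
  refine Fin.ext ((List.Nodup.getElem_inj_iff b0_facts.2 (hi := hi) (hj := hj)).mp ?_)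
  rw [List.getElem_map, List.getElem_map, ← List.getD_eq_getElem _ [], ← List.getD_eq_getElem _ [],
    ← bpt_val, ← bpt_val, h]

/-- preserving the base, acting by a function on the indices -/
def OnBase (β : MulAut G) (f : Fin 22 → Fin 22) : Prop := ∀ i, perm β (bpt i) = bpt (f i)

theorem OnBase.inj {β : MulAut G} {f : Fin 22 → Fin 22} (h : OnBase β f) : Function.Injective f :=
  fun i j e => bpt_inj (perm_inj β (by rw [h, h, e]))

/-! ### the elementary group -/

/-- the group generated by the base -/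
noncomputable def baseGrp : Subgroup G := Subgroup.closure (Set.range fun i => mem (bpt i))

theorem rigid {α : MulAut G} (h : ∀ i, perm α (bpt i) = bpt i) :
    ∃ k ∈ baseGrp, α = MulAut.conj k := by
  have hgen : ∀ lv ∈ Data.chE, ∀ g ∈ lv.gens,
      autG 1 g ∈ baseGrp.map (MulAut.conj : G →* MulAut G) := by
    intro lv hlv g hg
    have h1 := List.all_eq_true.mp (List.all_eq_true.mp chE_gens lv hlv) g hg
    simp only [Bool.and_eq_true, Bool.not_eq_true'] at h1
    refine ⟨(evalW e (pW g.us))⁻¹, inv_mem (pW_mem' fun u hu => ?_), ?_⟩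
    · obtain ⟨b, hb, hbu⟩ := List.any_eq_true.mp (List.all_eq_true.mp h1.2 u hu)
      obtain ⟨i, hi⟩ := exists_bpt hb
      exact Subgroup.subset_closure ⟨i, by rw [← of_decide_eq_true hbu, ← hi]⟩
    · rw [autG, h1.1, cond_false, mul_one]; rfl
  obtain ⟨k, hk, rfl⟩ := chain_sound (τ := 1) (tp := fun x => x) (fun x => by rw [perm_one])
    (R := fun _ _ => true) (𝒜 := Set.univ) (fun _ _ _ _ => Set.mem_univ _) (fun _ _ _ => rfl)
    Data.chE Data.b0W hgen chE_ok (fun p hp => b0_lt hp) α (Set.mem_univ _)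
    (fun p hp => by obtain ⟨i, hi⟩ := exists_bpt hp; rw [← hi]; exact h i)
  exact ⟨k, hk, rfl⟩
where
  pW_mem' {us : List (List ℕ)} (h : ∀ u ∈ us, mem (ptF u) ∈ baseGrp) :
      evalW e (pW us) ∈ baseGrp := by
    rw [evalW_pW]
    refine list_prod_mem fun x hx => ?_
    obtain ⟨u, hu, rfl⟩ := List.mem_map.mp hx
    exact h u hu

theorem base_comm (i j : Fin 22) : Commute (mem (bpt i)) (mem (bpt j)) := by
  rw [comm_iff]
  refine (adjb_iff (b0_lt (b0_mem i)) _).mp ?_
  rw [bpt_val]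
  exact List.all_eq_true.mp (List.all_eq_true.mp b0_comm _ (b0_mem i)) _ (b0_mem j)

/-- the basis -/
noncomputable def bas (i : ℕ) : G := evalW e (pW (basisW.getD i []))

theorem bas_eq {i : ℕ} (hi : i < 10) : ∃ j : Fin 22, (j : ℕ) = Data.basisIx.getD i 0 ∧ bas i = mem (bpt j) := by
  have hb := basis_ok
  simp only [Bool.and_eq_true, Nat.beq_eq, List.all_eq_true, Nat.blt_eq] at hb
  have hlen : i < Data.basisIx.length := by rw [hb.1.1]; exact hi
  have hj : Data.basisIx.getD i 0 < 22 := by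
    rw [List.getD_eq_getElem _ _ hlen]; exact hb.1.2 _ (List.getElem_mem hlen)
  refine ⟨⟨_, hj⟩, rfl, ?_⟩
  rw [bas, basisW, List.getD_eq_getElem _ _ (by simpa using hlen), List.getElem_map, evalW_pW,
    List.map_singleton, List.prod_singleton, bpt]
  simp [List.getElem?_eq_getElem hlen]

theorem bas_comm : ∀ i < 10, ∀ j < 10, Commute (bas i) (bas j) := fun i hi j hj => by
  obtain ⟨a, -, ea⟩ := bas_eq hi
  obtain ⟨b, -, eb⟩ := bas_eq hj
  rw [ea, eb]; exact base_comm a b

theorem bas_sq : ∀ i < 10, bas i * bas i = 1 := fun i hi => by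
  obtain ⟨a, -, ea⟩ := bas_eq hi
  rw [ea]; exact mem_sq _

/-- a product of the basis -/
noncomputable def mkE (c : ℕ) : G := mk bas 10 c

theorem ltW_wordC (c : ℕ) : ∀ n, (wordC basisW n c).all ltW = true
  | 0 => rfl
  | n + 1 => by
    rw [wordC, List.all_append, ltW_wordC c n, Bool.and_true]
    cases c.testBit n
    · rfl
    · refine List.all_eq_true.mpr fun v hv => ?_
      rw [cond_true] at hv
      by_cases hn : n < basisW.length
      · rw [List.getD_eq_getElem _ _ hn] at hv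
        simp only [basisW, List.getElem_map, List.mem_singleton] at hv
        subst hv
        by_cases hlt : Data.basisIx[n]'(by simpa [basisW] using hn) < Data.b0W.length
        · rw [List.getD_eq_getElem _ _ hlt]; exact b0_lt (List.getElem_mem _)
        · rw [List.getD_eq_default _ _ (by omega)]; rfl
      · rw [List.getD_eq_default _ _ (by omega)] at hv
        simp at hv

theorem perm_mkE (c : ℕ) (h : mkE c * mkE c = 1) (x : Pt) :
    ((ρ (mkE c) x : Pt) : ℕ) = wk (pW (wordC basisW 10 c)) x := by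
  rw [← wk_rep (ltW_pW (ltW_wordC c 10)), eval_wordC]
  show _ = ((ρ (mkE c)⁻¹ x : Pt) : ℕ)
  rw [inv_eq_of_mul_eq_one_right h]

theorem mkE_sq (c : ℕ) : mkE c * mkE c = 1 := mk_sq bas_comm bas_sq c

theorem letPts_mem {l : ℕ} (hl : l < 9) : pt (Data.cu.getD l []) ∈ letPts :=
  List.mem_map.mpr ⟨l, List.mem_range.mpr hl, rfl⟩

theorem code_eq (i : Fin 22) :
    Data.codes.getD i.1 0 < 2 ^ 10 ∧ mkE (Data.codes.getD i.1 0) = mem (bpt i) := by
  have h := List.all_eq_true.mp codes_ok i.1 (List.mem_range.mpr i.2)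
  simp only [Bool.and_eq_true, Nat.blt_eq] at h
  refine ⟨h.1, mul_inv_eq_one.mp (eq_one_of_fix fun l hl => ?_)⟩
  have hl' := List.all_eq_true.mp h.2 _ (letPts_mem hl)
  rw [Nat.beq_eq, ← ptF_val (ltW_cu l), ← perm_mkE _ (mkE_sq _), ← wk_conjW (b0_lt (b0_mem i)),
    Fin.val_inj] at hl'
  rw [mem_inv, map_mul, Equiv.Perm.mul_apply]
  show ρ (mkE _) (ρ (mem (bpt i)) (letter l)) = letter l
  have hc : ρ (mkE (Data.codes.getD i.1 0)) (ρ (mkE (Data.codes.getD i.1 0)) (letter l)) = letter l := by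
    rw [← Equiv.Perm.mul_apply, ← map_mul, mkE_sq, map_one]; rfl
  rw [show ρ (mem (bpt i)) (letter l) = ρ (mkE (Data.codes.getD i.1 0)) (letter l) from hl'.symm]
  exact hc

theorem baseGrp_mk {x : G} (hx : x ∈ baseGrp) : ∃ c, c < 2 ^ 10 ∧ mkE c = x :=
  mem_closure_mk bas_comm bas_sq (by rintro _ ⟨i, rfl⟩; exact ⟨_, code_eq i⟩) hx

/-! ### the two involutions normalising the base -/

/-- the two involutions -/
noncomputable def tauJ : ℕ → MulAut G
  | 0 => sigma
  | _ => Aw (pW Data.moveW) * sab * (Aw (pW Data.moveW))⁻¹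

theorem pW_reverse_eval : ∀ us : List (List ℕ), evalW e (pW us.reverse) = (evalW e (pW us))⁻¹
  | [] => by simp [pW, evalW]
  | u :: us => by
    rw [List.reverse_cons, pW, List.flatMap_append, evalW_append]
    show evalW e (pW us.reverse) * evalW e (pW [u]) = (evalW e (pW (u :: us)))⁻¹
    rw [pW_reverse_eval us, evalW_pW, evalW_pW [u], evalW_pW (u :: us)]
    simp [mem_inv]

theorem perm_Aw_inv {us : List (List ℕ)} (h : us.all ltW = true) (x : Pt) :
    (perm (Aw (pW us))⁻¹ x : ℕ) = wk (pW us.reverse) x := by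
  have e1 : (Aw (pW us))⁻¹ = Aw (pW us.reverse) := by
    rw [Aw, Aw, pW_reverse_eval, inv_inv, ← map_inv MulAut.conj, inv_inv]
  rw [e1, perm_Aw (ltW_pW (List.all_eq_true.mpr fun u hu =>
    List.all_eq_true.mp h u (List.mem_reverse.mp hu)))]

theorem perm_tau (j : ℕ) (x : Pt) : (perm (tauJ j) x : ℕ) = tauN j x := by
  match j with
  | 0 => exact perm_sigma x
  | j + 1 =>
    have hb := basis_ok
    simp only [Bool.and_eq_true] at hb
    rw [tauJ, perm_mul, perm_mul, perm_Aw (ltW_pW hb.2), perm_sab, perm_Aw_inv hb.2, tauN]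
    all_goals intro h; omega

theorem tau_sq (j : ℕ) : tauJ j * tauJ j = 1 := by
  match j with
  | 0 => exact sigma_sq
  | j + 1 =>
    show Aw _ * sab * (Aw _)⁻¹ * (Aw _ * sab * (Aw _)⁻¹) = 1
    rw [show ∀ A s : MulAut G, A * s * A⁻¹ * (A * s * A⁻¹) = A * (s * s) * A⁻¹ from
      fun A s => by group, sab_sq, mul_one, mul_inv_cancel]

/-- the representatives -/
noncomputable def repJ : ℕ → MulAut G
  | 0 => sigma
  | 1 => sa
  | _ => sab

theorem perm_rep (i : ℕ) (x : Pt) : (perm (repJ i) x : ℕ) = repN i x := by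
  match i with
  | 0 => exact perm_sigma x
  | 1 => exact perm_sa x
  | i + 2 => exact perm_sab x

theorem tau_mk {j : ℕ} (hj : j < 2) : ∀ {n : ℕ}, n ≤ 10 → ∀ c,
    tauJ j (mk bas n c) = mkE (Lc j n c) ∧ Lc j n c < 2 ^ 10
  | 0, _, c => ⟨by rw [mk, map_one]; exact (mk_zero bas 10).symm, Nat.two_pow_pos 10⟩
  | i + 1, hn, c => by
    obtain ⟨ih, ihlt⟩ := tau_mk hj (n := i) (by omega) c
    obtain ⟨a, ha, hbas⟩ := bas_eq (i := i) (by omega)
    have ht := List.all_eq_true.mp (List.all_eq_true.mp tau_perm j (List.mem_range.mpr hj)) a.1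
      (List.mem_range.mpr a.2)
    simp only [Bool.and_eq_true, Nat.blt_eq, Nat.beq_eq] at ht
    rw [ha] at ht
    obtain ⟨hlt, hval⟩ := ht
    have hperm : perm (tauJ j) (bpt a) = bpt ⟨_, hlt⟩ :=
      Fin.ext (by rw [perm_tau, bpt_val, bpt_val, ha]; exact hval)
    obtain ⟨hclt, hcode⟩ := code_eq ⟨_, hlt⟩
    rw [mk, map_mul, ih, Lc]
    cases c.testBit i
    · rw [cond_false, map_one, one_mul, cond_false, Nat.zero_xor]
      exact ⟨rfl, ihlt⟩
    · rw [cond_true, hbas, perm_spec, hperm, cond_true]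
      refine ⟨?_, Nat.xor_lt_two_pow hclt ihlt⟩
      rw [← hcode]
      exact (mk_xor bas_comm bas_sq _ _).symm

theorem conj_tau {j : ℕ} (c : ℕ) (hj : j < 2) :
    tauJ j * MulAut.conj (mkE c) = MulAut.conj (mkE (Lc j 10 c)) * tauJ j := by
  refine MulEquiv.ext fun x => ?_
  simp only [MulAut.mul_apply, MulAut.conj_apply, map_mul, map_inv, mkE, (tau_mk hj le_rfl c).1]

/-- the classes of the involutions acting on the base as the two -/
theorem elem_class {β : MulAut G} (hβ : β * β = 1) {j : ℕ} (hj : j < 2)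
    (h : ∀ i : Fin 22, perm β (bpt i) = perm (tauJ j) (bpt i)) :
    ∃ i < 3, IsConj β (repJ i) := by
  obtain ⟨k, hk, hkβ⟩ := rigid (α := β * tauJ j) fun i => by
    have ht := List.all_eq_true.mp (List.all_eq_true.mp tau_perm j (List.mem_range.mpr hj)) i.1
      (List.mem_range.mpr i.2)
    simp only [Bool.and_eq_true, Nat.blt_eq, Nat.beq_eq] at ht
    have hperm : perm (tauJ j) (bpt i) = bpt ⟨_, ht.1⟩ :=
      Fin.ext (by rw [perm_tau, bpt_val, bpt_val]; exact ht.2)
    rw [perm_mul, hperm, h, ← hperm, ← perm_mul, tau_sq, perm_one]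
  obtain ⟨c, hc, rfl⟩ := baseGrp_mk hk
  have hβe : β = MulAut.conj (mkE c) * tauJ j := by
    rw [← hkβ, mul_assoc, tau_sq, mul_one]
  -- the defect vanishes
  have hone : mkE (c ^^^ Lc j 10 c) = 1 := by
    refine conj_injective ?_
    rw [show mkE (c ^^^ Lc j 10 c) = mkE c * mkE (Lc j 10 c) from mk_xor bas_comm bas_sq _ _,
      map_mul, map_one]
    have := hβ
    rw [hβe, mul_assoc, ← mul_assoc (tauJ j), conj_tau c hj, mul_assoc _ (tauJ j), tau_sq, mul_one]
      at this
    exact this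
  have hfix : Lc j 10 c = c := by
    have hd := allLt_sound (List.all_eq_true.mp defect_cover j (List.mem_range.mpr hj)) c hc
    rw [force_eq, Bool.or_eq_true] at hd
    rcases hd with q | q
    · exact (Nat.xor_eq_zero_iff.mp (Nat.eq_of_beq_eq_true q)).symm
    exfalso
    obtain ⟨d, hd, hde⟩ := List.any_eq_true.mp q
    obtain ⟨x, hx, hne⟩ := List.any_eq_true.mp
      (List.all_eq_true.mp (List.all_eq_true.mp defect_moves j (List.mem_range.mpr hj)) d hd)
    obtain ⟨l, hl, rfl⟩ := List.mem_map.mp hx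
    rw [← Nat.eq_of_beq_eq_true hde, ← ptF_val (ltW_cu l), ← perm_mkE _ (mkE_sq _), hone, map_one]
      at hne
    simp at hne
  obtain ⟨t, ht, htc⟩ := List.mem_map.mp (coverB_mem
    (List.all_eq_true.mp red_cover j (List.mem_range.mpr hj)) hc (by rw [Nat.beq_eq]; exact hfix))
  have hr := List.all_eq_true.mp (List.all_eq_true.mp red_ok j (List.mem_range.mpr hj)) t ht
  simp only [Bool.and_eq_true, Nat.blt_eq, Nat.beq_eq] at hr
  obtain ⟨⟨hlen, hflt⟩, heq⟩ := hr
  set r := (Data.repTab.getD j []).getD t.2.2 (0, 0, []) with hrdef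
  have hrmem : r ∈ Data.repTab.getD j [] := by
    rw [hrdef, List.getD_eq_getElem _ _ hlen]; exact List.getElem_mem _
  have hw := List.all_eq_true.mp (List.all_eq_true.mp wit_ok j (List.mem_range.mpr hj)) r hrmem
  simp only [Bool.and_eq_true, Nat.blt_eq] at hw
  obtain ⟨⟨hwlt, hi3⟩, hwit⟩ := hw
  have hfinv : (MulAut.conj (mkE t.2.1))⁻¹ = MulAut.conj (mkE t.2.1) := by
    rw [← map_inv, inv_eq_of_mul_eq_one_right (mkE_sq _)]
  have h1 : IsConj β (MulAut.conj (mkE r.1) * tauJ j) := by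
    refine isConj_iff.mpr ⟨MulAut.conj (mkE t.2.1), ?_⟩
    rw [hfinv, hβe, mul_assoc, mul_assoc (MulAut.conj (mkE c)), conj_tau _ hj, ← mul_assoc,
      ← mul_assoc, ← map_mul, ← map_mul]
    congr 2
    rw [mkE, mkE, mkE, mkE, ← mk_xor bas_comm bas_sq, ← mk_xor bas_comm bas_sq]
    congr 1
    rw [← htc, heq, Nat.xor_comm r.1 t.2.1, Nat.xor_assoc t.2.1 r.1, ← Nat.xor_assoc t.2.1 t.2.1,
      Nat.xor_self, Nat.zero_xor, Nat.xor_assoc, Nat.xor_self, Nat.xor_zero]
  refine ⟨r.2.1, hi3, h1.trans (isConj_iff.mpr ⟨Aw (pW r.2.2), ?_⟩)⟩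
  rw [mul_inv_eq_iff_eq_mul]
  refine perm_ext fun l hl => Fin.ext ?_
  have := List.all_eq_true.mp hwit _ (letPts_mem hl)
  rw [Nat.beq_eq, ← ptF_val (ltW_cu l)] at this
  rw [perm_mul, perm_mul, perm_mul, perm_Aw (ltW_pW hwlt), perm_conj, perm_mkE _ (mkE_sq _),
    perm_tau, perm_rep, perm_Aw (ltW_pW hwlt)]
  exact this

/-! ### hexads and the search tree -/

theorem hexRow_ok (i : Fin 22) : hexRow i.1 = true := by
  by_cases h : i.1 < 11
  · exact List.all_eq_true.mp hexM_low i.1 (List.mem_range.mpr h)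
  · have hi := i.2
    have := List.all_eq_true.mp hexM_high (i.1 - 11) (List.mem_range.mpr (by omega))
    rwa [Nat.add_sub_cancel' (by omega)] at this

theorem bget_hexM (i : Fin 22) (x : Pt) :
    bget (Data.hexM.getD i.1 0) x = true ↔ ρ (mem (bpt i)) x = x := by
  have h := hexRow_ok i
  rw [hexRow, force_eq] at h
  have := allLt_sound h x x.isLt
  rw [force_eq, beq_iff_eq] at this
  have hu := b0_lt (b0_mem i)
  have hur : ltW (Data.b0W.getD i.1 []).reverse = true := by
    simp only [ltW, List.all_reverse] at hu ⊢; exact hu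
  have hy : ((ρ (evalW e (Data.b0W.getD i.1 [])) x : Pt) : ℕ) = wk (Data.b0W.getD i.1 []).reverse x := by
    rw [← wk_rep hur, evalW_reverse, inv_inv]
  rw [this, ← hy, ← ρ_letter (by norm_num : 0 < 9), Nat.beq_eq, Fin.val_inj, ← mem_zero]
  set g := evalW e (Data.b0W.getD i.1 [])
  have hb : bpt i = ρ g⁻¹ 0 := rfl
  rw [← (ρ g).injective.eq_iff (a := ρ (mem (bpt i)) x), ← image_move, hb,
    ← Equiv.Perm.mul_apply (f := ρ g) (g := ρ g⁻¹), ← map_mul, mul_inv_cancel, map_one,
    Equiv.Perm.one_apply]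

theorem foldr_testBit (p : ℕ → Bool) : ∀ (l : List ℕ) (i : ℕ),
    (l.foldr (fun k A => bif p k then A ||| (1 <<< k) else A) 0).testBit i = (decide (i ∈ l) && p i)
  | [], i => by simp
  | k :: r, i => by
    rw [List.foldr_cons]
    cases hk : p k
    · rw [cond_false, foldr_testBit p r i]
      by_cases h : i = k
      · subst h; simp [hk]
      · simp [h]
    · rw [cond_true, Nat.testBit_or, foldr_testBit p r i, Nat.shiftLeft_eq, one_mul,
        Nat.testBit_two_pow]
      by_cases h : i = k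
      · subst h; simp [hk]
      · simp [h, Ne.symm h]

theorem patt_bit (x : Pt) (i : Fin 22) : (patt x).testBit i = true ↔ ρ (mem (bpt i)) x = x := by
  rw [patt, foldr_testBit, decide_eq_true (List.mem_range.mpr i.2), Bool.true_and]
  exact bget_hexM i x

theorem hex_lt {h : ℕ} (hh : h < 77) : hexN h < 2 ^ 22 ∧ hexN h ≠ 0 := by
  have := List.all_eq_true.mp hex_each h (List.mem_range.mpr hh)
  simp only [Bool.and_eq_true, Nat.blt_eq, Bool.not_eq_true', ← Bool.not_eq_true, Nat.beq_eq] at this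
  exact ⟨this.1.2, this.1.1.2⟩

theorem bit_lt {n i : ℕ} (hn : n < 2 ^ 22) (hi : n.testBit i = true) : i < 22 := by
  by_contra hge
  have := Nat.testBit_lt_two_pow (lt_of_lt_of_le hn (Nat.pow_le_pow_right (by norm_num) (not_lt.mp hge)))
  rw [hi] at this
  exact Bool.false_ne_true this.symm

theorem hex_image {β : MulAut G} {f : Fin 22 → Fin 22} (hf : OnBase β f) {h : ℕ} (hh : h < 77) :
    ∃ h' < 77, ∀ i : Fin 22, (hexN h').testBit (f i) = (hexN h).testBit i := by
  have he := List.all_eq_true.mp hex_each h (List.mem_range.mpr hh)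
  simp only [Bool.and_eq_true, Nat.blt_eq, Bool.not_eq_true', ← Bool.not_eq_true, Nat.beq_eq,
    List.all_eq_true] at he
  obtain ⟨⟨⟨⟨hlt, hpat⟩, hne⟩, hlt22⟩, hout⟩ := he
  set x := ptF (Data.hexW.getD h [])
  have hxv : (x : ℕ) = pt (Data.hexW.getD h []) := ptF_val hlt
  have hbit : ∀ i : Fin 22, (patt (perm β x)).testBit (f i) = (hexN h).testBit i := fun i => by
    rw [← hpat, ← hxv, Bool.eq_iff_iff, patt_bit, patt_bit, ← hf, perm_adj]
  have hall := hex_all
  rw [force_eq] at hall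
  have h1 := allLt_sound hall (perm β x) (perm β x).isLt
  simp only [Bool.or_eq_true, Nat.beq_eq] at h1
  rcases h1 with (q | q) | q
  · exfalso
    obtain ⟨b, hb, hbe⟩ := List.mem_map.mp (mask_mem q)
    obtain ⟨i, hi⟩ := exists_bpt hb
    have hsurj := Finite.surjective_of_injective hf.inj
    obtain ⟨k, rfl⟩ := hsurj i
    have : x = bpt k := perm_inj β (by
      rw [hf, hi]; exact Fin.ext (by rw [ptF_val (b0_lt hb), hbe]))
    exact hout _ (b0_mem k) (by rw [← hxv, this, bpt_val])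
  · exfalso
    refine hne (Nat.eq_of_testBit_eq fun i => ?_)
    rw [Nat.zero_testBit]
    by_cases hi : i < 22
    · have := hbit ⟨i, hi⟩
      rw [q, Nat.zero_testBit] at this
      exact this.symm
    · exact Bool.eq_false_iff.mpr fun hb => hi (bit_lt hlt22 hb)
  · obtain ⟨m, hm, hme⟩ := List.any_eq_true.mp q
    obtain ⟨k, hk, rfl⟩ := List.getElem_of_mem hm
    rw [hex_len] at hk
    refine ⟨k, hk, fun i => ?_⟩
    rw [hexN, List.getD_eq_getElem _ _ (by rw [hex_len]; exact hk), Nat.eq_of_beq_eq_true hme]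
    exact hbit i

theorem hex_unique {h h' p q r : ℕ} (hh : h < 77) (hh' : h' < 77) (hpq : p ≠ q) (hpr : p ≠ r)
    (hqr : q ≠ r)
    (a : (hexN h).testBit p = true ∧ (hexN h).testBit q = true ∧ (hexN h).testBit r = true)
    (b : (hexN h').testBit p = true ∧ (hexN h').testBit q = true ∧ (hexN h').testBit r = true) :
    h = h' := by
  by_contra hne
  have := List.all_eq_true.mp (List.all_eq_true.mp hex_meet h (List.mem_range.mpr hh)) h'
    (List.mem_range.mpr hh')
  simp only [Bool.or_eq_true, Nat.beq_eq, Nat.blt_eq] at this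
  rcases this with e | hlen
  · exact hne e
  set L := (List.range 22).filter fun i => (hexN h).testBit i && (hexN h').testBit i with hL
  have hmem : ∀ i, (hexN h).testBit i = true → (hexN h').testBit i = true → i ∈ L := fun i e1 e2 =>
    List.mem_filter.mpr ⟨List.mem_range.mpr (bit_lt (hex_lt hh).1 e1), by rw [e1, e2]; rfl⟩
  have h3 : [p, q, r].Nodup := by simp [hpq, hpr, hqr]
  have := (h3.subperm (l₂ := L) fun i hi => by
    simp only [List.mem_cons, List.not_mem_nil, or_false] at hi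
    rcases hi with rfl | rfl | rfl
    exacts [hmem _ a.1 b.1, hmem _ a.2.1 b.2.1, hmem _ a.2.2 b.2.2]).length_le
  simp at this
  omega

/-- the pairs are in the graph -/
def Agree22 (d : List (ℕ × ℕ)) (f : Fin 22 → Fin 22) : Prop :=
  ∀ q ∈ d, ∃ h : q.1 < 22, (f ⟨q.1, h⟩ : ℕ) = q.2

/-- inner, or conjugate to act as one of the two -/
def Concl22 (β : MulAut G) : Prop :=
  β ∈ (MulAut.conj : G →* MulAut G).range ∨
    ∃ c : G, ∃ j < 2, ∀ i : Fin 22,
      perm (MulAut.conj c * β * (MulAut.conj c)⁻¹) (bpt i) = perm (tauJ j) (bpt i)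

theorem concl_conj {β : MulAut G} (c : G) (h : Concl22 (MulAut.conj c * β * (MulAut.conj c)⁻¹)) :
    Concl22 β := by
  rcases h with ⟨x, hx⟩ | ⟨d, j, hj, h⟩
  · refine Or.inl ⟨c⁻¹ * x * c, ?_⟩
    rw [map_mul, map_mul, map_inv, hx]; group
  · refine Or.inr ⟨d * c, j, hj, fun i => ?_⟩
    rw [← h i, map_mul]
    simp only [mul_inv_rev, mul_assoc]

theorem gw_perm {k : ℕ} (hk : k < Data.gPerm.length) (i : Fin 22) :
    ∃ h : gp k i.1 < 22, perm (Aw (pW (Data.gWords.getD k []))) (bpt i) = bpt ⟨gp k i.1, h⟩ := by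
  have h := List.all_eq_true.mp gw_ok k (List.mem_range.mpr hk)
  simp only [Bool.and_eq_true] at h
  have hi := List.all_eq_true.mp h.2 i.1 (List.mem_range.mpr i.2)
  simp only [Bool.and_eq_true, Nat.blt_eq, Nat.beq_eq] at hi
  exact ⟨hi.1, Fin.ext (by rw [perm_Aw (ltW_pW h.1), bpt_val, bpt_val]; exact hi.2)⟩

theorem exists_gpath {gens : List ℕ} {d : List (ℕ × ℕ)} {x : Fin 22}
    (hg : ∀ g ∈ gens, g < Data.gPerm.length ∧ gp g x = x ∧
      ∀ q ∈ d, hasP d (gp g q.1) (gp g q.2) = true) :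
    ∀ p : List ℕ, ∃ (c : G) (s : Fin 22 → Fin 22), OnBase (MulAut.conj c) s ∧ s x = x ∧
      (∀ w : Fin 22, (s w : ℕ) = gpath gens p w) ∧
      ∀ a b : Fin 22, hasP d a b = true → hasP d (s a) (s b) = true
  | [] => ⟨1, id, fun i => by rw [map_one, perm_one]; rfl, rfl, fun _ => rfl, fun _ _ h => h⟩
  | k :: r => by
    obtain ⟨c, s, hs, hsx, hsw, hsd⟩ := exists_gpath hg r
    by_cases hk : k < gens.length
    · have hmem : gens.getD k 0 ∈ gens := by
        rw [List.getD_eq_getElem _ _ hk]; exact List.getElem_mem _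
      obtain ⟨hlen, hgx, hgd⟩ := hg _ hmem
      set g := gens.getD k 0 with hgdef
      refine ⟨c * (evalW e (pW (Data.gWords.getD g [])))⁻¹,
        fun i => s ⟨gp g i.1, (gw_perm hlen i).1⟩, fun i => ?_, ?_, fun w => ?_, fun a b hab => ?_⟩
      · rw [map_mul, perm_mul]
        show perm _ (perm (Aw _) (bpt i)) = _
        rw [(gw_perm hlen i).2, hs]
      · show s ⟨gp g x.1, _⟩ = x
        conv_rhs => rw [← hsx]
        exact congrArg s (Fin.ext hgx)
      · rw [gpath, show Nat.blt k gens.length = true by rw [Nat.blt_eq]; exact hk, cond_true]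
        exact hsw _
      · obtain ⟨q, hq, he⟩ := List.any_eq_true.mp hab
        simp only [Bool.and_eq_true, Nat.beq_eq] at he
        have h1 := hgd q hq
        rw [he.1, he.2] at h1
        exact hsd ⟨gp g a.1, _⟩ ⟨gp g b.1, _⟩ h1
    · refine ⟨c, s, hs, hsx, fun w => ?_, hsd⟩
      rw [gpath, show Nat.blt k gens.length = false by
        rw [← Bool.not_eq_true, Nat.blt_eq]; exact hk, cond_false]
      exact hsw w

theorem cand_sound {β : MulAut G} {f : Fin 22 → Fin 22} (hf : OnBase β f) {d : List (ℕ × ℕ)}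
    (hd : Agree22 d f) {x : Fin 22} (hx : inDom d x = false)
    {cons : List (ℕ × ℕ × ℕ × ℕ × ℕ)} (hcons : cons.all (consOK d) = true) :
    cand22 cons d x (f x) = true := by
  simp only [cand22, Bool.and_eq_true, List.all_eq_true, Bool.not_eq_true', ← Bool.not_eq_true,
    Nat.beq_eq, beq_iff_eq]
  refine ⟨fun q hq e => ?_, fun c hc => ?_⟩
  · obtain ⟨hq1, hq2⟩ := hd q hq
    have : (⟨q.1, hq1⟩ : Fin 22) = x := hf.inj (Fin.ext (hq2.trans e))
    simp only [inDom, List.any_eq_false] at hx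
    exact hx q hq (by rw [Nat.beq_eq, ← this])
  · obtain ⟨h, h', p, q, r⟩ := c
    have hok := List.all_eq_true.mp hcons _ hc
    simp only [consOK, Bool.and_eq_true, Nat.blt_eq, Bool.not_eq_true', ← Bool.not_eq_true,
      Nat.beq_eq, List.all_eq_true] at hok
    obtain ⟨⟨⟨⟨⟨⟨⟨⟨⟨⟨⟨hh, hh'⟩, hpq⟩, hpr⟩, hqr⟩, hbp⟩, hbq⟩, hbr⟩, hdp⟩, hdq⟩, hdr⟩, himg⟩ := hok
    obtain ⟨k, hk, hkb⟩ := hex_image hf hh
    have key : ∀ s, inDom d s = true → (hexN h).testBit s = true → (s = p ∨ s = q ∨ s = r) →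
        ∃ hs : s < 22, (hexN k).testBit (f ⟨s, hs⟩) = true ∧ (hexN h').testBit (f ⟨s, hs⟩) = true := by
      intro s hs hb hor
      obtain ⟨w, hw, he⟩ := List.any_eq_true.mp hs
      obtain ⟨hw1, hw2⟩ := hd w hw
      obtain rfl : w.1 = s := Nat.eq_of_beq_eq_true he
      refine ⟨hw1, by rw [hkb]; exact hb, ?_⟩
      have := himg w hw
      simp only [Bool.or_eq_true, Bool.not_eq_true', ← Bool.not_eq_true, Nat.beq_eq] at this
      rcases this with q' | q'
      · exact absurd (by rcases hor with e | e | e <;> simp [e]) q'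
      · rw [hw2]; exact q'
    obtain ⟨p22, kp, hp'⟩ := key p hdp hbp (Or.inl rfl)
    obtain ⟨q22, kq, hq'⟩ := key q hdq hbq (Or.inr (Or.inl rfl))
    obtain ⟨r22, kr, hr'⟩ := key r hdr hbr (Or.inr (Or.inr rfl))
    have hne : ∀ {a b : Fin 22}, (a : ℕ) ≠ b → (f a : ℕ) ≠ f b := fun {a b} h e =>
      h (congrArg Fin.val (hf.inj (Fin.ext e)))
    have hkk : k = h' := hex_unique hk hh' (hne (a := ⟨p, p22⟩) (b := ⟨q, q22⟩) hpq)
      (hne (a := ⟨p, p22⟩) (b := ⟨r, r22⟩) hpr) (hne (a := ⟨q, q22⟩) (b := ⟨r, r22⟩) hqr)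
      ⟨kp, kq, kr⟩ ⟨hp', hq', hr'⟩
    rw [← hkk]
    exact (hkb x).symm

theorem tree_sound : ∀ (T : PTr) (d : List (ℕ × ℕ)) (gens : List ℕ) (x : ℕ),
    ptchk T d gens x = true →
      (T.main = true → ∀ β f, β * β = 1 → OnBase β f → Agree22 d f → Concl22 β) ∧
      ((∀ g ∈ gens, g < Data.gPerm.length ∧ gp g x = x ∧
          ∀ q ∈ d, hasP d (gp g q.1) (gp g q.2) = true) →
        ∀ (hx : x < 22) β f, β * β = 1 → OnBase β f → Agree22 d f →
          (f ⟨x, hx⟩ : ℕ) ∈ T.reach gens → Concl22 β) := by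
  intro T
  induction T with
  | nil =>
    intro d gens x _
    exact ⟨fun h => by simp [PTr.main] at h, fun _ _ _ _ _ _ _ h => by simp [PTr.reach] at h⟩
  | inner k =>
    intro d gens x h
    refine ⟨fun _ β f hβ hf hd => ?_, fun _ _ _ _ _ _ _ h => by simp [PTr.reach] at h⟩
    simp only [ptchk, Bool.and_eq_true, List.all_eq_true, Nat.blt_eq, Nat.beq_eq] at h
    obtain ⟨⟨hk, hdom⟩, hall⟩ := h
    obtain ⟨m, -, hm⟩ := rigid (α := (Aw (pW (Data.gWords.getD k [])))⁻¹ * β) fun i => by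
      obtain ⟨q, hq, he⟩ := List.any_eq_true.mp (hdom i.1 (List.mem_range.mpr i.2))
      obtain ⟨hq1, hq2⟩ := hd q hq
      obtain ⟨hlt, hp⟩ := gw_perm hk i
      have e1 : f i = ⟨gp k i.1, hlt⟩ := by
        have hi : (⟨q.1, hq1⟩ : Fin 22) = i := Fin.ext (Nat.eq_of_beq_eq_true he)
        refine Fin.ext ?_
        have := hall q hq
        rw [← hq2, hi] at this
        rw [Nat.eq_of_beq_eq_true he] at this
        exact this.symm
      rw [perm_mul, hf, e1, ← hp, perm_inv_apply]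
    refine Or.inl ⟨(evalW e (pW (Data.gWords.getD k [])))⁻¹ * m, ?_⟩
    rw [map_mul, ← hm, ← mul_assoc]
    show Aw _ * (Aw _)⁻¹ * β = β
    rw [mul_inv_cancel, one_mul]
  | outer j k =>
    intro d gens x h
    refine ⟨fun _ β f hβ hf hd => ?_, fun _ _ _ _ _ _ _ h => by simp [PTr.reach] at h⟩
    simp only [ptchk, Bool.and_eq_true, List.all_eq_true, Nat.blt_eq, Nat.beq_eq] at h
    obtain ⟨⟨⟨hj, hk⟩, hdom⟩, hall⟩ := h
    refine Or.inr ⟨(evalW e (pW (Data.gWords.getD k [])))⁻¹, j, hj, ?_⟩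
    have hsinj : Function.Injective fun i : Fin 22 => (⟨gp k i.1, (gw_perm hk i).1⟩ : Fin 22) := fun a b e =>
      bpt_inj (perm_inj _ (((gw_perm hk a).2.trans (congrArg bpt e)).trans (gw_perm hk b).2.symm))
    intro i
    obtain ⟨a, rfl⟩ := Finite.surjective_of_injective hsinj i
    obtain ⟨q, hq, he⟩ := List.any_eq_true.mp (hdom a.1 (List.mem_range.mpr a.2))
    obtain ⟨hq1, hq2⟩ := hd q hq
    have hqa : q.1 = a.1 := Nat.eq_of_beq_eq_true he
    have hq3 := hall q hq
    rw [hqa, ← hq2, show (⟨q.1, hq1⟩ : Fin 22) = a from Fin.ext hqa] at hq3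
    show perm (Aw _ * β * (Aw _)⁻¹) (bpt ⟨gp k a.1, _⟩) = _
    rw [← (gw_perm hk a).2, perm_mul, perm_mul, perm_inv_apply, hf, (gw_perm hk (f a)).2,
      (gw_perm hk a).2]
    refine Fin.ext ?_
    have ht := List.all_eq_true.mp (List.all_eq_true.mp tau_perm j (List.mem_range.mpr hj)) (gp k a.1)
      (List.mem_range.mpr (gw_perm hk a).1)
    simp only [Bool.and_eq_true, Nat.beq_eq] at ht
    rw [perm_tau, bpt_val, bpt_val, ht.2]
    exact congrArg (fun n => pt (Data.b0W.getD n [])) hq3.symm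
  | node y cons gs kids ih =>
    intro d gens x h
    refine ⟨fun _ β f hβ hf hd => ?_, fun _ _ _ _ _ _ _ h => by simp [PTr.reach] at h⟩
    simp only [ptchk, Bool.and_eq_true, Nat.blt_eq, Bool.not_eq_true'] at h
    obtain ⟨⟨⟨⟨⟨hy, hdom⟩, hgens⟩, hcons⟩, hcov⟩, hkids⟩ := h
    have hg : ∀ g ∈ gs, g < Data.gPerm.length ∧ gp g y = y ∧
        ∀ q ∈ d, hasP d (gp g q.1) (gp g q.2) = true := fun g hg => by
      have := List.all_eq_true.mp hgens g hg
      simp only [Bool.and_eq_true, Nat.blt_eq, Nat.beq_eq, List.all_eq_true] at this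
      exact ⟨this.1.1, this.1.2, this.2⟩
    exact (ih d gs y hkids).2 hg hy β f hβ hf hd (coverB_mem hcov (f ⟨y, hy⟩).isLt
      (cand_sound hf hd (x := ⟨y, hy⟩) hdom hcons))
  | kid w paths sub next ihs ihn =>
    intro d gens x h
    refine ⟨fun h => by simp [PTr.main] at h, fun hg hx β f hβ hf hd hmem => ?_⟩
    simp only [ptchk, Bool.and_eq_true, Nat.blt_eq] at h
    obtain ⟨⟨⟨hmain, hw⟩, hsub⟩, hnext⟩ := h
    simp only [PTr.reach, List.mem_append, List.mem_map] at hmem
    rcases hmem with ⟨p, -, hp⟩ | hmem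
    swap
    · exact (ihn d gens x hnext).2 hg hx β f hβ hf hd hmem
    obtain ⟨c, s, hs, hsx, hsw, hsd⟩ := exists_gpath (x := ⟨x, hx⟩) hg p
    obtain ⟨t, ht⟩ := (Finite.surjective_of_injective hs.inj).hasRightInverse
    have hts : ∀ i, t (s i) = i := fun i => hs.inj (ht (s i))
    -- conjugate
    let β' := MulAut.conj c⁻¹ * β * (MulAut.conj c⁻¹)⁻¹
    refine concl_conj c⁻¹ ((ihs _ [] 0 hsub).1 hmain β' (fun i => t (f (s i))) ?_ ?_ ?_)
    · simp only [β']
      rw [show ∀ A b : MulAut G, A * b * A⁻¹ * (A * b * A⁻¹) = A * (b * b) * A⁻¹ from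
        fun A b => by group, hβ, mul_one, mul_inv_cancel]
    · intro i
      simp only [β']
      rw [map_inv, inv_inv, perm_mul, perm_mul, hs, hf]
      conv_lhs => rw [← ht (f (s i)), ← hs, perm_inv_apply]
    · have hsb : s ⟨w, hw⟩ = f ⟨x, hx⟩ := Fin.ext (by rw [hsw]; exact hp)
      have hfx : t (f (s ⟨x, hx⟩)) = ⟨w, hw⟩ := by rw [hsx, ← hsb, hts]
      have hff : ∀ i, f (f i) = i := fun i => bpt_inj (by
        rw [← hf, ← hf, ← perm_mul, hβ, perm_one])
      intro q hq
      simp only [List.mem_cons] at hq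
      rcases hq with rfl | rfl | hq
      · exact ⟨hx, congrArg Fin.val hfx⟩
      · refine ⟨hw, congrArg Fin.val (show t (f (s ⟨w, hw⟩)) = ⟨x, hx⟩ from ?_)⟩
        rw [hsb, hff]
        conv_rhs => rw [← hts ⟨x, hx⟩, hsx]
      · obtain ⟨hq1, hq2⟩ := hd q hq
        have hP : hasP d (⟨q.1, hq1⟩ : Fin 22) (f ⟨q.1, hq1⟩) = true :=
          List.any_eq_true.mpr ⟨q, hq, by simp [hq2]⟩
        obtain ⟨u, hu, he⟩ := List.any_eq_true.mp (hsd _ _ hP)
        simp only [Bool.and_eq_true, Nat.beq_eq] at he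
        obtain ⟨hu1, hu2⟩ := hd u hu
        have e1 : f (s ⟨q.1, hq1⟩) = s (f ⟨q.1, hq1⟩) := by
          have : (⟨u.1, hu1⟩ : Fin 22) = s ⟨q.1, hq1⟩ := Fin.ext he.1
          rw [← this]; exact Fin.ext (hu2.trans he.2)
        refine ⟨hq1, ?_⟩
        show (t (f (s ⟨q.1, hq1⟩)) : ℕ) = q.2
        rw [e1, hts, hq2]

theorem base_class {β : MulAut G} {f : Fin 22 → Fin 22} (hβ : β * β = 1) (hf : OnBase β f)
    (hout : β ∉ (MulAut.conj : G →* MulAut G).range) : ∃ i < 3, IsConj β (repJ i) := by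
  rcases (tree_sound Data.ptree [] [] 0 ptree_ok).1 ptree_main β f hβ hf (fun q hq => by simp at hq)
    with h | ⟨c, j, hj, h⟩
  · exact absurd h hout
  · obtain ⟨i, hi, hc⟩ := elem_class (β := MulAut.conj c * β * (MulAut.conj c)⁻¹) (by
      rw [show ∀ A b : MulAut G, A * b * A⁻¹ * (A * b * A⁻¹) = A * (b * b) * A⁻¹ from
        fun A b => by group, hβ, mul_one, mul_inv_cancel]) hj h
    exact ⟨i, hi, (isConj_iff.mpr ⟨MulAut.conj c, rfl⟩).trans hc⟩

end Cfsg.Agent.H39.Fi22Invol
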