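import Cfsg.Agent.H39.Fi22Invol.Checks.ChainA
import Cfsg.Agent.H39.Fi22Invol.Checks.ChainAOne
import Cfsg.Agent.H39.Fi22Invol.Checks.ChainOther
import Cfsg.Agent.H3.Fischer.O8.Data

/-!
The centralisers of the three outer involutions, as generated groups.
-/

set_option autoImplicit false
set_option maxRecDepth 100000

namespace Cfsg.Agent.H39.Fi22Invol

open Cfsg.Agent.H45 Cfsg.Agent.H46.Fi22Out

/-- the fixed subgroup of an automorphism -/
def fixOf (τ : MulAut G) : Subgroup G := MonoidHom.eqLocus τ.toMonoidHom (MonoidHom.id G)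

theorem mem_fixOf {τ : MulAut G} {g : G} : g ∈ fixOf τ ↔ τ g = g := Iff.rfl

theorem perm_fix {τ : MulAut G} {g : G} (h : τ g = g) (x : Pt) :
    perm τ (ρ g x) = ρ g (perm τ x) := by rw [perm_ρ, h]

theorem mem_fixed {τ : MulAut G} {x : Pt} : τ (mem x) = mem x ↔ perm τ x = x := by
  rw [perm_spec]; exact ⟨fun h => mem_inj h, fun h => by rw [h]⟩

/-- the group generated by lists of members -/
def genGrp (L : List (List (List ℕ))) : Subgroup G :=
  Subgroup.closure {g | ∃ us ∈ L, evalW e (pW us) = g}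

theorem pW_mem {K : Subgroup G} {us : List (List ℕ)} (h : ∀ u ∈ us, mem (ptF u) ∈ K) :
    evalW e (pW us) ∈ K := by
  rw [evalW_pW]
  refine list_prod_mem fun x hx => ?_
  obtain ⟨u, hu, rfl⟩ := List.mem_map.mp hx
  exact h u hu

theorem allFix_mem {τ : MulAut G} {f : ℕ → ℕ} (hτ : ∀ x : Pt, (perm τ x : ℕ) = f x)
    {us : List (List ℕ)} (h : allFix f us = true) : evalW e (pW us) ∈ fixOf τ := by
  refine pW_mem fun u hu => ?_
  have := List.all_eq_true.mp h u hu
  simp only [Bool.and_eq_true, Nat.beq_eq] at this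
  exact mem_fixed.mpr (Fin.ext (by rw [hτ, ptF_val this.1]; exact this.2))

theorem fixed_le {τ : MulAut G} {tp : ℕ → ℕ} (hτ : ∀ x : Pt, (perm τ x : ℕ) = tp x)
    (hττ : τ * τ = 1) (hni : τ ∉ (MulAut.conj : G →* MulAut G).range) {Kg P : Subgroup G}
    (hKτ : Kg ≤ fixOf τ) (hKP : Kg ≤ P) {ok : List (List ℕ) → Bool}
    (hok : ∀ us, ok us = true → evalW e (pW us) ∈ Kg) {ls : List Lvl} {R : ℕ → ℕ → Bool}
    (hls : gensFrom ok ls = true) {prev : List (List ℕ)} (hprev : prev.all ltW = true)
    (hc : chainOK tp R ls prev = true)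
    (hR : ∀ g ∈ fixOf τ, g ∈ P → ∀ x : Pt,
      R x (ρ g x) = true ∧ R x (ρ g (perm τ x)) = true)
    {g : G} (hg : g ∈ fixOf τ) (hgP : g ∈ P) (hgprev : ∀ p ∈ prev, ρ g (ptF p) = ptF p) :
    g ∈ Kg := by
  have hfix : ∀ k ∈ Kg, τ k = k := fun k hk => hKτ hk
  let 𝒜 : Set (MulAut G) :=
    {α | ∃ h ∈ fixOf τ, h ∈ P ∧ ∃ i : Bool, α = MulAut.conj h * (bif i then τ else 1)}
  have hA : ∀ k ∈ extend τ Kg hττ hfix, ∀ α ∈ 𝒜, k * α ∈ 𝒜 := by
    rintro _ ⟨k, hk, i, rfl⟩ _ ⟨h, hh, hhP, j, rfl⟩
    refine ⟨k * h, mul_mem (hKτ hk) hh, mul_mem (hKP hk) hhP, xor i j, ?_⟩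
    have hc : τ * MulAut.conj h = MulAut.conj h * τ := by
      refine MulEquiv.ext fun x => ?_
      simp only [MulAut.mul_apply, MulAut.conj_apply, map_mul, map_inv, mem_fixOf.mp hh]
    cases i
    · simp [mul_assoc]
    · cases j
      · simp [mul_assoc, hc]
      · simp only [Bool.xor_self, cond_true, cond_false, mul_one]
        rw [mul_assoc, ← mul_assoc τ, hc, mul_assoc, hττ, mul_one, map_mul]
  have hRA : ∀ α ∈ 𝒜, ∀ x : Pt, R x (perm α x) = true := by
    rintro _ ⟨h, hh, hhP, i, rfl⟩ x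
    cases i
    · rw [cond_false, mul_one, perm_conj]; exact (hR h hh hhP x).1
    · rw [cond_true, perm_mul, perm_conj]; exact (hR h hh hhP x).2
  have hgens : ∀ lv ∈ ls, ∀ q ∈ lv.gens, autG τ q ∈ extend τ Kg hττ hfix := by
    intro lv hlv q hq
    have := List.all_eq_true.mp (List.all_eq_true.mp hls lv hlv) q hq
    have hmem : evalW e (pW q.us) ∈ Kg := by
      rcases Bool.or_eq_true _ _ |>.mp this with h | h
      · rw [of_decide_eq_true h]; exact one_mem Kg
      · exact hok _ h
    exact ⟨(evalW e (pW q.us))⁻¹, inv_mem hmem, q.flip, rfl⟩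
  obtain ⟨k, hk, i, hi⟩ := chain_sound hτ hA hRA ls prev hgens hc
    (fun p hp => List.all_eq_true.mp hprev p hp) (MulAut.conj g) ⟨g, hg, hgP, false, by simp⟩
    (fun p hp => by rw [perm_conj]; exact hgprev p hp)
  cases i
  · rw [cond_false, mul_one] at hi
    rwa [conj_injective hi]
  · refine absurd ⟨k⁻¹ * g, ?_⟩ hni
    rw [cond_true] at hi
    rw [map_mul, hi, map_inv, inv_mul_cancel_left]

theorem isF_iff {τ : MulAut G} {f : ℕ → ℕ} (hτ : ∀ x : Pt, (perm τ x : ℕ) = f x) (x : Pt) :
    isF f x = true ↔ perm τ x = x := by rw [isF, Nat.beq_eq, ← hτ, Fin.val_inj]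

theorem fix_pres {τ : MulAut G} {f : ℕ → ℕ} (hτ : ∀ x : Pt, (perm τ x : ℕ) = f x) {g : G}
    (hg : g ∈ fixOf τ) (x : Pt) :
    (!isF f x || isF f (ρ g x)) = true ∧ (!isF f x || isF f (ρ g (perm τ x))) = true := by
  by_cases h : isF f x = true
  · have hx := (isF_iff hτ x).mp h
    have := (isF_iff hτ (ρ g x)).mpr (by rw [perm_fix hg, hx])
    rw [hx]; simp [this]
  · simp [Bool.eq_false_iff.mpr h]

/-! ### the first -/

/-- the words of the generators of the first centraliser -/
def bigGens : List (List ℕ) :=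
  ((List.range 8).map fun i => conjW (Cfsg.Agent.H3.Fischer.O8.pws.getD i [])) ++ [[7]]

/-- the first centraliser -/
def bigK : Subgroup G :=
  Subgroup.closure (Set.range (fun i : Fin 8 => mem (ptF (Cfsg.Agent.H3.Fischer.O8.pws.getD i.1 []))) ∪
    {e 7})

/-- steps along the generators -/
noncomputable def bstep : List ℕ → ℕ → ℕ
  | [], x => x
  | i :: r, x => bstep r (wk (bigGens.getD i []) x)

theorem big_facts : (((List.range 8).all fun i =>
      allFix sigN [Cfsg.Agent.H3.Fischer.O8.pws.getD i []]) &&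
    Nat.beq (pt (Cfsg.Agent.H3.Fischer.O8.pws.getD 0 [])) (pt Data.ua) &&
    coverB 3510 (isF sigN) (Data.bigPaths.map fun p => bstep p (pt Data.ua))) = true := by
  decide +kernel

theorem refl_big (i : Fin 8) : mem (ptF (Cfsg.Agent.H3.Fischer.O8.pws.getD i.1 [])) ∈ bigK :=
  Subgroup.subset_closure (Or.inl ⟨i, rfl⟩)

theorem refl_lt (i : Fin 8) : ltW (Cfsg.Agent.H3.Fischer.O8.pws.getD i.1 []) = true := by
  have h := big_facts
  simp only [Bool.and_eq_true] at h
  have := List.all_eq_true.mp h.1.1 i.1 (List.mem_range.mpr i.2)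
  simp only [allFix, List.all_cons, List.all_nil, Bool.and_true, Bool.and_eq_true] at this
  exact this.1

theorem bigK_le : bigK ≤ fixOf sigma := by
  refine (Subgroup.closure_le _).mpr ?_
  rintro _ (⟨i, rfl⟩ | rfl)
  · have h := big_facts
    simp only [Bool.and_eq_true] at h
    have := List.all_eq_true.mp h.1.1 i.1 (List.mem_range.mpr i.2)
    have h1 := allFix_mem perm_sigma this
    rw [evalW_pW] at h1
    simpa using h1
  · exact sigma_letter (by norm_num)

theorem bigGens_ok (i : ℕ) :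
    ltW (bigGens.getD i []) = true ∧ evalW e (bigGens.getD i []) ∈ bigK := by
  by_cases hi : i < 8
  · rw [bigGens, List.getD_append _ _ _ _ (by simpa using hi),
      List.getD_eq_getElem _ _ (by simpa using hi), List.getElem_map, List.getElem_range]
    exact ⟨ltW_conjW (refl_lt ⟨i, hi⟩), by rw [mem_word]; exact refl_big ⟨i, hi⟩⟩
  · by_cases h8 : i = 8
    · subst h8
      refine ⟨rfl, ?_⟩
      show evalW e [7] ∈ bigK
      rw [evalW_cons, evalW_nil, mul_one]
      exact Subgroup.subset_closure (Or.inr rfl)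
    · rw [List.getD_eq_default _ _ (by simp [bigGens]; omega)]
      exact ⟨rfl, one_mem _⟩

theorem bstep_orbit : ∀ (p : List ℕ) (x : Pt), mem x ∈ bigK →
    ∃ y : Pt, (y : ℕ) = bstep p x ∧ mem y ∈ bigK
  | [], x, h => ⟨x, rfl, h⟩
  | i :: r, x, h => by
    obtain ⟨hl, hm⟩ := bigGens_ok i
    obtain ⟨y, hy, hyK⟩ := bstep_orbit r (ρ (evalW e (bigGens.getD i []))⁻¹ x) (by
      rw [← conj_mem]; exact mul_mem (mul_mem (inv_mem hm) h) (inv_mem (inv_mem hm)))
    exact ⟨y, by rw [hy, wk_rep hl]; rfl, hyK⟩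

theorem fixed_mem_bigK {x : Pt} (hx : perm sigma x = x) : mem x ∈ bigK := by
  have h := big_facts
  simp only [Bool.and_eq_true, Nat.beq_eq] at h
  obtain ⟨p, -, hp⟩ := List.mem_map.mp (coverB_mem h.2 x.isLt ((isF_iff perm_sigma x).mpr hx))
  obtain ⟨y, hy, hyK⟩ := bstep_orbit p (ptF (Cfsg.Agent.H3.Fischer.O8.pws.getD (0 : Fin 8).1 []))
    (refl_big 0)
  rw [ptF_val (refl_lt 0)] at hy
  have : y = x := Fin.ext (by rw [hy, ← hp, ← h.1.2]; rfl)
  exact this ▸ hyK

theorem cs_eq : fixOf sigma = bigK := by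
  refine le_antisymm (fun g hg => ?_) bigK_le
  refine fixed_le perm_sigma sigma_sq sigma_not_inner bigK_le le_top ?_ chA_gens
    (prev := []) rfl chA_ok (fun h hh _ x => fix_pres perm_sigma hh x) hg (Subgroup.mem_top g)
    (fun p hp => by simp at hp)
  intro us h
  refine pW_mem fun u hu => fixed_mem_bigK ?_
  have := List.all_eq_true.mp h u hu
  simp only [Bool.and_eq_true, Nat.beq_eq] at this
  exact Fin.ext (by rw [perm_sigma, ptF_val this.1]; exact this.2)

/-! ### the first and the first member -/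

/-- the group -/
def oneK : Subgroup G := genGrp gensA

theorem gensA_facts : (gensA.all fun us => allFix sigN us && us.all fun u => adjb u (pt Data.ua)) = true := by
  decide +kernel

theorem oneK_le : oneK ≤ fixOf sigma ⊓ Subgroup.centralizer ({ma} : Set G) := by
  refine (Subgroup.closure_le _).mpr ?_
  rintro _ ⟨us, hus, rfl⟩
  have h := List.all_eq_true.mp gensA_facts us hus
  simp only [Bool.and_eq_true] at h
  refine ⟨allFix_mem perm_sigma h.1, ?_⟩
  refine pW_mem fun u hu => ?_
  rw [Subgroup.mem_centralizer_singleton_iff]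
  have hu' : ltW u = true := by
    have := List.all_eq_true.mp h.1 u hu
    simp only [Bool.and_eq_true] at this; exact this.1
  exact ((comm_iff _ _).mpr ((adjb_iff hu' _).mp (by
    rw [ptF_val ua_lt]; exact List.all_eq_true.mp h.2 u hu))).eq

theorem sigma_pa : perm sigma (ptF Data.ua) = ptF Data.ua := mem_fixed.mp sigma_ma

theorem csa_eq : fixOf sigma ⊓ Subgroup.centralizer ({ma} : Set G) = oneK := by
  refine le_antisymm (fun g hg => ?_) oneK_le
  refine fixed_le perm_sigma sigma_sq sigma_not_inner (P := Subgroup.centralizer {ma})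
    (oneK_le.trans inf_le_left) (oneK_le.trans inf_le_right) ?_ chA1_gens (prev := []) rfl chA1_ok
    ?_ hg.1 hg.2 (fun p hp => by simp at hp)
  · intro us h
    obtain ⟨v, hv, hvu⟩ := List.any_eq_true.mp h
    exact Subgroup.subset_closure ⟨v, hv, by rw [of_decide_eq_true hvu]⟩
  · intro h hh hhP x
    have hha : ρ h (ptF Data.ua) = ptF Data.ua :=
      (comm_iff _ _).mp (Subgroup.mem_centralizer_singleton_iff.mp hhP)
    have h2 := fix_pres perm_sigma hh x
    simp only [RA, Bool.and_eq_true]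
    by_cases hx : x = ptF Data.ua
    · subst hx
      refine ⟨⟨?_, h2.1⟩, ⟨?_, h2.2⟩⟩
      · simp [hha, ← ptF_val ua_lt]
      · simp [sigma_pa, hha, ← ptF_val ua_lt]
    · have hn : Nat.beq (x : ℕ) (pt Data.ua) = false := by
        rw [← Bool.not_eq_true, Nat.beq_eq, ← ptF_val ua_lt, Fin.val_inj]; exact hx
      simp [hn, h2.1, h2.2]

theorem f1_facts : (Data.f1W.all (fun u => ltW u && isF saN (pt u) && isF sigN (pt u) &&
      adjb Data.ua (pt u) &&
      (Nat.beq (pt u) (pt Data.ua) || Data.f1W.any fun v => !adjb u (pt v))) &&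
    coverB 3510 (isF saN) (Data.f1W.map pt)) = true := by decide +kernel

theorem f1_mem {x : Pt} (hx : perm sa x = x) : ∃ u ∈ Data.f1W, ptF u = x := by
  have h := f1_facts
  simp only [Bool.and_eq_true] at h
  obtain ⟨u, hu, he⟩ := List.mem_map.mp (coverB_mem h.2 x.isLt ((isF_iff perm_sa x).mpr hx))
  have hl := List.all_eq_true.mp h.1 u hu
  simp only [Bool.and_eq_true] at hl
  exact ⟨u, hu, Fin.ext (by rw [ptF_val hl.1.1.1.1, he])⟩

theorem f1_spec {u : List ℕ} (hu : u ∈ Data.f1W) : ltW u = true ∧ perm sa (ptF u) = ptF u ∧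
    perm sigma (ptF u) = ptF u ∧ ρ ma (ptF u) = ptF u := by
  have h := f1_facts
  simp only [Bool.and_eq_true] at h
  have hl := List.all_eq_true.mp h.1 u hu
  simp only [Bool.and_eq_true] at hl
  obtain ⟨⟨⟨⟨hlt, h1⟩, h2⟩, h3⟩, -⟩ := hl
  rw [← ptF_val hlt] at h1 h2 h3
  exact ⟨hlt, (isF_iff perm_sa _).mp h1, (isF_iff perm_sigma _).mp h2,
    (adjb_iff ua_lt _).mp h3⟩

/-- fixed by the second automorphism means fixed by the first and commuting with the first member -/
theorem sa_fix_iff (g : G) : sa g = g ↔ g ∈ fixOf sigma ⊓ Subgroup.centralizer ({ma} : Set G) := by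
  constructor
  · intro hg
    have hpa : perm sa (ptF Data.ua) = ptF Data.ua := by
      rw [sa, perm_mul, perm_conj, show ρ ma (ptF Data.ua) = ptF Data.ua from mem_fix _, sigma_pa]
    have hga : ρ g (ptF Data.ua) = ptF Data.ua := by
      obtain ⟨u, hu, hue⟩ := f1_mem (x := ρ g (ptF Data.ua)) (by rw [perm_fix hg, hpa])
      have h := f1_facts
      simp only [Bool.and_eq_true] at h
      have hl := List.all_eq_true.mp h.1 u hu
      simp only [Bool.and_eq_true, Bool.or_eq_true] at hl
      rcases hl.2 with he | he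
      · rw [← hue]
        exact Fin.ext (by rw [ptF_val (f1_spec hu).1, ptF_val ua_lt, Nat.eq_of_beq_eq_true he])
      · exfalso
        obtain ⟨v, hv, hne⟩ := List.any_eq_true.mp he
        obtain ⟨hvl, hvs, -, -⟩ := f1_spec hv
        have hginv : sa g⁻¹ = g⁻¹ := by rw [map_inv, hg]
        obtain ⟨w, hw, hwe⟩ := f1_mem (x := ρ g⁻¹ (ptF v)) (by rw [perm_fix hginv, hvs])
        have hadj := (f1_spec hw).2.2.2
        rw [hwe] at hadj
        have := congrArg (ρ g) hadj
        rw [ma, ← image_move, ← Equiv.Perm.mul_apply (f := ρ g) (g := ρ g⁻¹), ← map_mul, mul_inv_cancel,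
          map_one, Equiv.Perm.one_apply, ← hue, ← adjb_iff (f1_spec hu).1, ptF_val hvl] at this
        simp [this] at hne
    have hc : g ∈ Subgroup.centralizer ({ma} : Set G) :=
      Subgroup.mem_centralizer_singleton_iff.mpr ((comm_iff g _).mpr hga).eq
    refine ⟨?_, hc⟩
    have h1 : sigma (ma * g * ma⁻¹) = g := hg
    rw [← Subgroup.mem_centralizer_singleton_iff.mp hc, mul_inv_cancel_right] at h1
    exact h1
  · rintro ⟨h1, h2⟩
    show sigma (ma * g * ma⁻¹) = g
    rw [← Subgroup.mem_centralizer_singleton_iff.mp h2, mul_inv_cancel_right]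
    exact h1

/-- pointwise stabiliser of the points fixed by both -/
def fixOne : Subgroup G where
  carrier := {g | ∀ x : Pt, perm sa x = x → ρ g x = x}
  mul_mem' := fun {g h} hg hh x hx => by
    rw [map_mul, Equiv.Perm.mul_apply, hh x hx, hg x hx]
  one_mem' := fun x _ => by rw [map_one]; rfl
  inv_mem' := fun {g} hg x hx => by
    rw [map_inv, Equiv.Perm.inv_eq_iff_eq, hg x hx]

theorem kerA {g : G} (hg : g ∈ fixOf sigma) (hF : g ∈ fixOne) : g = 1 ∨ g = ma := by
  have hKP : Subgroup.closure ({ma} : Set G) ≤ fixOne := by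
    refine (Subgroup.closure_le _).mpr (Set.singleton_subset_iff.mpr fun x hx => ?_)
    obtain ⟨u, hu, rfl⟩ := f1_mem hx
    exact (f1_spec hu).2.2.2
  have hKτ : Subgroup.closure ({ma} : Set G) ≤ fixOf sigma :=
    (Subgroup.closure_le _).mpr (Set.singleton_subset_iff.mpr sigma_ma)
  have hmem := fixed_le perm_sigma sigma_sq sigma_not_inner (P := fixOne) hKτ hKP
    (ok := fun us => decide (us = [Data.ua]))
    (fun us h => by
      rw [of_decide_eq_true h, evalW_pW, List.map_singleton, List.prod_singleton]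
      exact Subgroup.subset_closure rfl)
    kA_gens (prev := Data.f1W)
    (List.all_eq_true.mpr fun u hu => (f1_spec hu).1) kA_ok ?_ hg hF
    (fun p hp => hF _ (f1_spec hp).2.1)
  · rw [← Subgroup.zpowers_eq_closure] at hmem
    obtain ⟨n, rfl⟩ := hmem
    have hsq : ma ^ (2 : ℤ) = 1 := by rw [zpow_two]; exact mem_sq _
    obtain ⟨m, rfl | rfl⟩ : ∃ m : ℤ, n = 2 * m ∨ n = 2 * m + 1 := ⟨n / 2, by omega⟩
    · left; show ma ^ (2 * m) = 1; rw [zpow_mul, hsq, one_zpow]
    · right; show ma ^ (2 * m + 1) = ma; rw [zpow_add, zpow_mul, hsq, one_zpow, one_mul, zpow_one]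
  · intro h hh hhF x
    have h2 := fix_pres perm_sigma hh x
    simp only [RKA, Bool.and_eq_true]
    by_cases hx : isF saN x = true ∧ isF sigN x = true
    · have := hhF x ((isF_iff perm_sa x).mp hx.1)
      rw [(isF_iff perm_sigma x).mp hx.2, this]
      simp [hx.1, hx.2]
    · rcases Classical.not_and_iff_not_or_not.mp hx with q | q <;>
        simp [Bool.eq_false_iff.mpr q, h2.1, h2.2]

/-! ### the third -/

theorem csab_eq : fixOf sab = genGrp gensB := by
  have h := gensB_facts
  simp only [Bool.and_eq_true] at h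
  have hle : genGrp gensB ≤ fixOf sab := by
    refine (Subgroup.closure_le _).mpr ?_
    rintro _ ⟨us, hus, rfl⟩
    exact allFix_mem perm_sab (List.all_eq_true.mp h.1 us hus)
  refine le_antisymm (fun g hg => ?_) hle
  refine fixed_le perm_sab sab_sq not_inner_mul hle le_top ?_ h.2 (prev := []) rfl chB_ok
    (fun k hk _ x => fix_pres perm_sab hk x) hg (Subgroup.mem_top g) (fun p hp => by simp at hp)
  intro us hu
  obtain ⟨v, hv, hvu⟩ := List.any_eq_true.mp hu
  exact Subgroup.subset_closure ⟨v, hv, by rw [of_decide_eq_true hvu]⟩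

theorem kB_facts : ((Data.genKer.all fun us => gensB.any (fun v => decide (v = us)) &&
      allLt (fun x => bif isF sabN x then Nat.beq (v2 (wk (pW us) x)) (v2 x) else true) 3510) &&
    gensFrom (fun us => Data.genKer.any fun v => decide (v = us)) Data.chKB) = true := by
  decide +kernel

/-- elements of the third centraliser preserving the vectors -/
def fixTwo : Subgroup G where
  carrier := {g | g ∈ fixOf sab ∧ ∀ x : Pt, perm sab x = x → v2 (ρ g x) = v2 x}
  mul_mem' := fun {g h} hg hh => ⟨mul_mem hg.1 hh.1, fun x hx => by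
    rw [map_mul, Equiv.Perm.mul_apply, hg.2 _ (by rw [perm_fix hh.1, hx]), hh.2 x hx]⟩
  one_mem' := ⟨one_mem _, fun x _ => by rw [map_one]; rfl⟩
  inv_mem' := fun {g} hg => ⟨inv_mem hg.1, fun x hx => by
    have := hg.2 (ρ g⁻¹ x) (by rw [perm_fix (inv_mem hg.1), hx])
    rw [← Equiv.Perm.mul_apply, ← map_mul, mul_inv_cancel, map_one] at this
    exact this.symm⟩

theorem kerB : fixTwo = genGrp Data.genKer := by
  have h := kB_facts
  simp only [Bool.and_eq_true] at h
  have hle : genGrp Data.genKer ≤ fixTwo := by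
    refine (Subgroup.closure_le _).mpr ?_
    rintro _ ⟨us, hus, rfl⟩
    have hu := List.all_eq_true.mp h.1 us hus
    simp only [Bool.and_eq_true] at hu
    have hmem : evalW e (pW us) ∈ fixOf sab := by
      obtain ⟨v, hv, hvu⟩ := List.any_eq_true.mp hu.1
      rw [csab_eq]
      exact Subgroup.subset_closure ⟨v, hv, by rw [of_decide_eq_true hvu]⟩
    have hl : ltW (pW us) = true := by
      have hg := gensB_facts
      simp only [Bool.and_eq_true] at hg
      obtain ⟨v, hv, hvu⟩ := List.any_eq_true.mp hu.1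
      rw [← of_decide_eq_true hvu]
      refine ltW_pW (List.all_eq_true.mpr fun u hu => ?_)
      have := List.all_eq_true.mp (List.all_eq_true.mp hg.1 v hv) u hu
      simp only [Bool.and_eq_true] at this
      exact this.1
    refine ⟨hmem, fun x hx => ?_⟩
    have := allLt_sound hu.2 (ρ (evalW e (pW us)) x) (Fin.isLt _)
    rw [(isF_iff perm_sab _).mpr (by rw [perm_fix hmem, hx]), cond_true, Nat.beq_eq, ← wk_rep hl,
      ← Equiv.Perm.mul_apply, ← map_mul, inv_mul_cancel, map_one] at this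
    exact this.symm
  refine le_antisymm (fun g hg => ?_) hle
  refine fixed_le perm_sab sab_sq not_inner_mul (hle.trans fun k hk => hk.1) hle ?_ h.2 (prev := [])
    rfl kB_ok ?_ hg.1 hg (fun p hp => by simp at hp)
  · intro us hu
    obtain ⟨v, hv, hvu⟩ := List.any_eq_true.mp hu
    exact Subgroup.subset_closure ⟨v, hv, by rw [of_decide_eq_true hvu]⟩
  · intro k hk hkP x
    simp only [RKB]
    by_cases hx : isF sabN x = true
    · have hx' := (isF_iff perm_sab x).mp hx
      have hF : isF sabN (ρ k x) = true := (isF_iff perm_sab _).mpr (by rw [perm_fix hk, hx'])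
      rw [hx', hkP.2 x hx', hF]
      simp
    · simp [Bool.eq_false_iff.mpr hx]

end Cfsg.Agent.H39.Fi22Invol
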