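import Cfsg.Agent.H39.Fi22Invol.Base

/-!
Stabiliser chains for groups of automorphisms of `Fi₂₂`, read on the points: at each level the
possible images of the base point form one orbit of the given generators.
-/

set_option autoImplicit false
set_option maxRecDepth 100000

namespace Cfsg.Agent.H39.Fi22Invol

open Cfsg.Agent.H45 Cfsg.Agent.H46.Fi22Out

/-- an optional outer factor followed by a product of members -/
structure Gen where
  flip : Bool
  us : List (List ℕ)

/-- a level of a chain -/
inductive Lvl where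
  | orbit (u : List ℕ) (gens : List Gen) (paths : List (List ℕ))
  | derived (u u₀ : List ℕ) (via : List (List ℕ))

/-- the word of the base point -/
def Lvl.base : Lvl → List ℕ
  | .orbit u _ _ => u
  | .derived u _ _ => u

/-- the generators of a level -/
def Lvl.gens : Lvl → List Gen
  | .orbit _ g _ => g
  | .derived _ _ _ => []

/-- one step -/
noncomputable def gstep (tp : ℕ → ℕ) (g : Gen) (x : ℕ) : ℕ :=
  wk (pW g.us) (bif g.flip then tp x else x)

/-- several steps -/
noncomputable def pstep (tp : ℕ → ℕ) (gens : List Gen) : List ℕ → ℕ → ℕ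
  | [], x => x
  | i :: r, x => pstep tp gens r (gstep tp (gens.getD i ⟨false, []⟩) x)

/-- the mask of a list -/
def mask : List ℕ → ℕ
  | [] => 0
  | x :: r => mask r ||| (1 <<< x)

/-- all points with the property are in the list -/
noncomputable def coverB (n : ℕ) (pred : ℕ → Bool) (l : List ℕ) : Bool :=
  force (mask l) fun A => allLt (fun x => bif pred x then bget A x else true) n

/-- the member of a word fixes the point -/
noncomputable def adjb (u : List ℕ) (x : ℕ) : Bool := Nat.beq (wk (conjW u) x) x

/-- the possible images of a base point -/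
noncomputable def lpred (R : ℕ → ℕ → Bool) (prev : List (List ℕ)) (b x : ℕ) : Bool :=
  R b x && prev.all fun p => (adjb p x == adjb p b) && !Nat.beq x (pt p)

/-- a point among the bases -/
noncomputable def known (prev : List (List ℕ)) (u : List ℕ) : Bool :=
  prev.any fun p => Nat.beq (pt u) (pt p)

/-- the check of a chain -/
noncomputable def chainOK (tp : ℕ → ℕ) (R : ℕ → ℕ → Bool) : List Lvl → List (List ℕ) → Bool
  | [], prev => (List.range 9).all fun l => known prev (Data.cu.getD l [])
  | .orbit u gens paths :: r, prev =>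
    ltW u && (gens.all fun g => g.us.all ltW &&
        prev.all fun p => Nat.beq (gstep tp g (pt p)) (pt p)) &&
      (force (pt u) fun b =>
        coverB 3510 (lpred R prev b) (paths.map fun p => pstep tp gens p b)) &&
      !known prev u && chainOK tp R r (u :: prev)
  | .derived u u₀ via :: r, prev =>
    ltW u && ltW u₀ && (via.all fun v => ltW v && known prev v) && known prev u₀ &&
      Nat.beq (wk (pW via) (pt u₀)) (pt u) && chainOK tp R r (u :: prev)

theorem wk_append {v w : List ℕ} (x : ℕ) : wk (v ++ w) x = wk w (wk v x) := by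
  simp only [wk, cw, List.map_append]
  induction v generalizing x with
  | nil => rfl
  | cons a v ih => simp only [List.map_cons, List.cons_append, walkC, force_eq]; exact ih _

theorem mask_mem : ∀ {l : List ℕ} {x : ℕ}, bget (mask l) x = true → x ∈ l
  | [], x, h => by rw [mask, bget_eq, Nat.zero_testBit] at h; simp at h
  | a :: r, x, h => by
    rw [mask, bget_eq, Nat.testBit_or, Bool.or_eq_true, ← bget_eq, Nat.shiftLeft_eq, one_mul,
      Nat.testBit_two_pow, decide_eq_true_eq] at h
    rcases h with h | h
    · exact List.mem_cons_of_mem _ (mask_mem h)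
    · exact h ▸ List.mem_cons_self

theorem coverB_mem {n : ℕ} {pred : ℕ → Bool} {l : List ℕ} (h : coverB n pred l = true) {x : ℕ}
    (hx : x < n) (hp : pred x = true) : x ∈ l := by
  rw [coverB, force_eq] at h
  have := allLt_sound h x hx
  rw [hp, cond_true] at this
  exact mask_mem this

theorem adjb_iff {u : List ℕ} (hu : ltW u = true) (y : Pt) :
    adjb u y = true ↔ ρ (mem (ptF u)) y = y := (adj_iff hu y).symm

theorem known_mem {prev : List (List ℕ)} {u : List ℕ} (hu : ltW u = true)
    (hprev : ∀ p ∈ prev, ltW p = true) (h : known prev u = true) :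
    ∃ p ∈ prev, ptF u = ptF p := by
  obtain ⟨p, hp, he⟩ := List.any_eq_true.mp h
  exact ⟨p, hp, Fin.ext (by rw [ptF_val hu, ptF_val (hprev p hp)]; exact Nat.eq_of_beq_eq_true he)⟩

/-- the automorphism of a generator -/
noncomputable def autG (τ : MulAut G) (g : Gen) : MulAut G :=
  Aw (pW g.us) * (bif g.flip then τ else 1)

variable {τ : MulAut G} {tp : ℕ → ℕ} (hτ : ∀ x : Pt, (perm τ x : ℕ) = tp x)

include hτ

theorem perm_autG {g : Gen} (hg : g.us.all ltW = true) (x : Pt) :
    (perm (autG τ g) x : ℕ) = gstep tp g x := by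
  rw [autG, perm_mul, perm_Aw (ltW_pW hg), gstep]
  cases g.flip
  · simp [perm_one]
  · simp [hτ]

theorem exists_path {K : Subgroup (MulAut G)} {gens : List Gen} {prev : List Pt}
    (hlt : ∀ g ∈ gens, g.us.all ltW = true) (hmem : ∀ g ∈ gens, autG τ g ∈ K)
    (hfix : ∀ g ∈ gens, ∀ p ∈ prev, perm (autG τ g) p = p) :
    ∀ path : List ℕ, ∃ k ∈ K, (∀ p ∈ prev, perm k p = p) ∧
      ∀ x : Pt, (perm k x : ℕ) = pstep tp gens path x
  | [] => ⟨1, one_mem _, fun p _ => perm_one p, fun x => by rw [perm_one]; rfl⟩
  | i :: r => by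
    obtain ⟨k, hk, hkp, hkx⟩ := exists_path hlt hmem hfix r
    by_cases hi : i < gens.length
    · have hg : gens.getD i ⟨false, []⟩ ∈ gens := by
        rw [List.getD_eq_getElem _ _ hi]; exact List.getElem_mem _
      refine ⟨k * autG τ _, mul_mem hk (hmem _ hg), fun p hp => ?_, fun x => ?_⟩
      · rw [perm_mul, hfix _ hg p hp, hkp p hp]
      · rw [perm_mul, hkx, perm_autG hτ (hlt _ hg), pstep]
    · refine ⟨k, hk, hkp, fun x => ?_⟩
      rw [hkx, pstep, List.getD_eq_default _ _ (by omega), gstep]
      rfl

theorem chain_sound {R : ℕ → ℕ → Bool} {𝒜 : Set (MulAut G)} {K : Subgroup (MulAut G)}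
    (hK : ∀ k ∈ K, ∀ α ∈ 𝒜, k * α ∈ 𝒜) (hR : ∀ α ∈ 𝒜, ∀ x : Pt, R x (perm α x) = true) :
    ∀ (ls : List Lvl) (prev : List (List ℕ)), (∀ lv ∈ ls, ∀ g ∈ lv.gens, autG τ g ∈ K) →
      chainOK tp R ls prev = true → (∀ p ∈ prev, ltW p = true) →
      ∀ α ∈ 𝒜, (∀ p ∈ prev, perm α (ptF p) = ptF p) → α ∈ K := by
  intro ls
  induction ls with
  | nil =>
    intro prev _ h hprev α _ hfix
    have : α = 1 := eq_one_of_perm fun l hl => by
      obtain ⟨p, hp, e⟩ := known_mem (ltW_cu l) hprev
        (List.all_eq_true.mp h l (List.mem_range.mpr hl))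
      rw [letter, e]; exact hfix p hp
    exact this ▸ one_mem K
  | cons lv r ih =>
    intro prev hgK h hprev α hα hfix
    have hgK' : ∀ lv' ∈ r, ∀ g ∈ lv'.gens, autG τ g ∈ K := fun lv' h' => hgK lv' (List.mem_cons_of_mem _ h')
    cases lv with
    | orbit u gens paths =>
      simp only [chainOK, force_eq, Bool.and_eq_true] at h
      obtain ⟨⟨⟨⟨hu, hgens⟩, hcov⟩, hnk⟩, hrest⟩ := h
      have hgl : ∀ g ∈ gens, g.us.all ltW = true := fun g hg => by
        have := List.all_eq_true.mp hgens g hg
        simp only [Bool.and_eq_true] at this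
        exact this.1
      have hgfix : ∀ g ∈ gens, ∀ p ∈ prev.map ptF, perm (autG τ g) p = p := fun g hg p hp => by
        obtain ⟨w, hw, rfl⟩ := List.mem_map.mp hp
        have := List.all_eq_true.mp hgens g hg
        simp only [Bool.and_eq_true] at this
        have h1 := Nat.eq_of_beq_eq_true (List.all_eq_true.mp this.2 w hw)
        refine Fin.ext ?_
        rw [perm_autG hτ (hgl g hg), ptF_val (hprev w hw)]
        exact h1
      set b := ptF u with hb
      have hbv : (b : ℕ) = pt u := ptF_val hu
      have hpred : lpred R prev (pt u) (perm α b) = true := by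
        simp only [lpred, Bool.and_eq_true, List.all_eq_true, beq_iff_eq, Bool.not_eq_true',
          ← Bool.not_eq_true, Nat.beq_eq]
        refine ⟨hbv ▸ hR α hα b, fun p hp => ⟨?_, ?_⟩⟩
        · rw [Bool.eq_iff_iff, ← hbv, adjb_iff (hprev p hp), adjb_iff (hprev p hp)]
          conv_lhs => rw [← hfix p hp, perm_adj]
        · intro e
          rw [← ptF_val (hprev p hp), Fin.val_inj, ← hfix p hp] at e
          have e' : b = ptF p := perm_inj α e
          simp only [known, Bool.not_eq_true', List.any_eq_false] at hnk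
          exact hnk p hp (by rw [Nat.beq_eq, ← hbv, e', ptF_val (hprev p hp)])
      obtain ⟨path, -, hpe⟩ := List.mem_map.mp (coverB_mem hcov (perm α b).isLt hpred)
      obtain ⟨k, hk, hkp, hkx⟩ := exists_path hτ hgl
        (fun g hg => hgK _ List.mem_cons_self g hg) hgfix path
      have hkb : perm k b = perm α b := Fin.ext (by rw [hkx, hbv, hpe])
      have hα' : k⁻¹ * α ∈ 𝒜 := hK _ (inv_mem hk) α hα
      have := ih (u :: prev) hgK' hrest
        (fun p hp => (List.mem_cons.mp hp).elim (fun e => e ▸ hu) (hprev p)) _ hα'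
        (fun p hp => by
          rw [perm_mul]
          rcases List.mem_cons.mp hp with rfl | hp
          · rw [← hb, ← hkb, perm_inv_apply]
          · rw [hfix p hp]
            conv_lhs => rw [← hkp _ (List.mem_map_of_mem hp), perm_inv_apply])
      simpa using mul_mem hk this
    | derived u u₀ via =>
      simp only [chainOK, Bool.and_eq_true, List.all_eq_true] at h
      obtain ⟨⟨⟨⟨⟨hu, hu₀⟩, hvia⟩, hk₀⟩, heq⟩, hrest⟩ := h
      obtain ⟨p₀, hp₀, e₀⟩ := known_mem hu₀ hprev hk₀
      have key : ∀ (vs : List (List ℕ)), (∀ v ∈ vs, ltW v = true ∧ known prev v = true) →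
          ∀ y : Pt, perm α y = y → ∀ z : Pt, (z : ℕ) = wk (pW vs) y → perm α z = z := by
        intro vs
        induction vs with
        | nil => intro _ y hy z hz; rwa [Fin.ext (hz.trans rfl : (z : ℕ) = y)]
        | cons v vs ihv =>
          intro hvs y hy z hz
          obtain ⟨hv, hvk⟩ := hvs v List.mem_cons_self
          obtain ⟨p, hp, ep⟩ := known_mem hv hprev hvk
          rw [pW, List.flatMap_cons, wk_append] at hz
          refine ihv (fun w hw => hvs w (List.mem_cons_of_mem _ hw)) (ρ (mem (ptF v)) y) ?_ z ?_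
          · rw [perm_move, hy, ep, hfix p hp]
          · rw [wk_conjW hv]; exact hz
      refine ih (u :: prev) hgK' hrest
        (fun p hp => (List.mem_cons.mp hp).elim (fun e => e ▸ hu) (hprev p)) α hα
        (fun p hp => ?_)
      rcases List.mem_cons.mp hp with rfl | hp
      · refine key via hvia (ptF u₀) (by rw [e₀]; exact hfix p₀ hp₀) _ ?_
        rw [ptF_val hu, ptF_val hu₀]
        exact (Nat.eq_of_beq_eq_true heq).symm
      · exact hfix p hp

/-- a subgroup extended by a commuting involution -/
def extend (τ : MulAut G) (Kg : Subgroup G) (hττ : τ * τ = 1) (hfix : ∀ k ∈ Kg, τ k = k) :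
    Subgroup (MulAut G) where
  carrier := {α | ∃ k ∈ Kg, ∃ i : Bool, α = MulAut.conj k * (bif i then τ else 1)}
  one_mem' := ⟨1, one_mem _, false, by simp⟩
  mul_mem' := by
    rintro _ _ ⟨k, hk, i, rfl⟩ ⟨l, hl, j, rfl⟩
    have hc : τ * MulAut.conj l = MulAut.conj l * τ := by
      refine MulEquiv.ext fun x => ?_
      simp only [MulAut.mul_apply, MulAut.conj_apply, map_mul, map_inv, hfix l hl]
    refine ⟨k * l, mul_mem hk hl, xor i j, ?_⟩
    cases i
    · simp [mul_assoc]
    · cases j
      · simp [mul_assoc, hc]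
      · simp only [Bool.xor_self, cond_true, cond_false, mul_one]
        rw [mul_assoc, ← mul_assoc τ, hc, mul_assoc, hττ, mul_one, map_mul]
  inv_mem' := by
    rintro _ ⟨k, hk, i, rfl⟩
    refine ⟨k⁻¹, inv_mem hk, i, ?_⟩
    cases i
    · simp
    · rw [cond_true, mul_inv_rev, inv_eq_of_mul_eq_one_right hττ,
        show (MulAut.conj k)⁻¹ = MulAut.conj k⁻¹ from (map_inv MulAut.conj k).symm]
      refine MulEquiv.ext fun x => ?_
      rw [MulAut.mul_apply, MulAut.mul_apply, MulAut.conj_apply, MulAut.conj_apply, map_mul, map_mul]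
      simp only [map_inv τ, hfix k hk]

end Cfsg.Agent.H39.Fi22Invol
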