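import Cfsg.Agent.H39.Fi22Invol.Base

/-!
Products of commuting involutions indexed by bits.
-/

set_option autoImplicit false

namespace Cfsg.Agent.H39.Fi22Invol

open Cfsg.Agent.H45

section
variable {X : Type*} [Group X]

/-- the product selected by the bits -/
def mk (b : ℕ → X) : ℕ → ℕ → X
  | 0, _ => 1
  | i + 1, c => (bif c.testBit i then b i else 1) * mk b i c

theorem mk_zero (b : ℕ → X) : ∀ n, mk b n 0 = 1
  | 0 => rfl
  | i + 1 => by rw [mk, Nat.zero_testBit, cond_false, one_mul, mk_zero b i]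

theorem mk_mem {b : ℕ → X} {H : Subgroup X} : ∀ {n : ℕ}, (∀ i < n, b i ∈ H) → ∀ c, mk b n c ∈ H
  | 0, _, _ => one_mem H
  | i + 1, h, c => by
    refine mul_mem ?_ (mk_mem (fun j hj => h j (by omega)) c)
    cases c.testBit i
    · exact one_mem H
    · exact h i (by omega)

theorem mk_comm {b : ℕ → X} : ∀ {n : ℕ}, (∀ i < n, ∀ j < n, Commute (b i) (b j)) → ∀ x : X,
    (∀ i < n, Commute x (b i)) → ∀ c, Commute x (mk b n c)
  | 0, _, x, _, _ => Commute.one_right x
  | i + 1, h, x, hx, c => by
    refine Commute.mul_right ?_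
      (mk_comm (fun j hj k hk => h j (by omega) k (by omega)) x (fun j hj => hx j (by omega)) c)
    cases c.testBit i
    · exact Commute.one_right x
    · exact hx i (by omega)

theorem mk_xor {b : ℕ → X} : ∀ {n : ℕ}, (∀ i < n, ∀ j < n, Commute (b i) (b j)) →
    (∀ i < n, b i * b i = 1) → ∀ c d, mk b n (c ^^^ d) = mk b n c * mk b n d
  | 0, _, _, _, _ => (one_mul 1).symm
  | i + 1, h, h2, c, d => by
    have hc := mk_comm (n := i) (fun j hj k hk => h j (by omega) k (by omega)) (b i)
      (fun j hj => h i (by omega) j (by omega)) c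
    have ih := mk_xor (b := b) (n := i) (fun j hj k hk => h j (by omega) k (by omega))
      (fun j hj => h2 j (by omega)) c d
    rw [mk, mk, mk, Nat.testBit_xor, ih]
    cases c.testBit i <;> cases d.testBit i <;>
      simp only [Bool.xor_false, Bool.xor_true, Bool.not_false, Bool.not_true, cond_true, cond_false,
        one_mul, mul_assoc]
    · rw [← mul_assoc, hc.eq, mul_assoc]
    · rw [← mul_assoc (mk b i c) (b i), ← hc.eq, mul_assoc (b i) (mk b i c), ← mul_assoc (b i) (b i),
        h2 i (by omega), one_mul]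

theorem mk_single {b : ℕ → X} : ∀ {n i : ℕ}, i < n → mk b n (2 ^ i) = b i
  | m + 1, i, hi => by
    rw [mk, Nat.testBit_two_pow]
    by_cases h : i = m
    · subst h
      have hz : ∀ k ≤ i, mk b k (2 ^ i) = 1 := by
        intro k
        induction k with
        | zero => intro _; rfl
        | succ k ih =>
          intro hk
          rw [mk, Nat.testBit_two_pow, decide_eq_false (by omega), cond_false, one_mul,
            ih (by omega)]
      rw [decide_eq_true rfl, cond_true, hz i le_rfl, mul_one]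
    · rw [decide_eq_false h, cond_false, one_mul, mk_single (by omega)]

theorem mk_sq {b : ℕ → X} {n : ℕ} (h : ∀ i < n, ∀ j < n, Commute (b i) (b j))
    (h2 : ∀ i < n, b i * b i = 1) (c : ℕ) : mk b n c * mk b n c = 1 := by
  rw [← mk_xor h h2, Nat.xor_self, mk_zero]

theorem mem_closure_mk {b : ℕ → X} {n : ℕ} (h : ∀ i < n, ∀ j < n, Commute (b i) (b j))
    (h2 : ∀ i < n, b i * b i = 1) {T : Set X} (hT : ∀ x ∈ T, ∃ c, c < 2 ^ n ∧ mk b n c = x)
    {x : X} (hx : x ∈ Subgroup.closure T) : ∃ c, c < 2 ^ n ∧ mk b n c = x := by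
  induction hx using Subgroup.closure_induction with
  | mem x hx => exact hT x hx
  | one => exact ⟨0, Nat.two_pow_pos n, mk_zero b n⟩
  | mul x y _ _ hx hy =>
    obtain ⟨c, hc, rfl⟩ := hx
    obtain ⟨d, hd, rfl⟩ := hy
    exact ⟨c ^^^ d, Nat.xor_lt_two_pow hc hd, mk_xor h h2 c d⟩
  | inv x _ hx =>
    obtain ⟨c, hc, rfl⟩ := hx
    exact ⟨c, hc, eq_inv_of_mul_eq_one_left (mk_sq h h2 c)⟩

end

/-- the word of a selected product -/
def wordC (ws : List (List (List ℕ))) : ℕ → ℕ → List (List ℕ)
  | 0, _ => []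
  | i + 1, c => (bif c.testBit i then ws.getD i [] else []) ++ wordC ws i c

theorem eval_wordC (ws : List (List (List ℕ))) : ∀ (n c : ℕ),
    evalW Cfsg.Agent.H46.Fi22Out.e (pW (wordC ws n c)) =
      mk (fun i => evalW Cfsg.Agent.H46.Fi22Out.e (pW (ws.getD i []))) n c
  | 0, _ => rfl
  | i + 1, c => by
    rw [wordC, pW, List.flatMap_append, evalW_append, mk, ← eval_wordC ws i c]
    cases c.testBit i
    · simp [pW, evalW]
    · rfl

end Cfsg.Agent.H39.Fi22Invol
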