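import Cfsg.Agent.H39.Fi22Invol.BaseStab
import Cfsg.Agent.H39.Fi22Invol.Checks.Lines

/-!
Every outer involution of `Fi₂₂` leaves a base of 22 invariant, and so is conjugate to one of the three.
-/

set_option autoImplicit false
set_option maxRecDepth 100000

namespace Cfsg.Agent.H39.Fi22Invol

open Cfsg.Agent.H45 Cfsg.Agent.H46.Fi22Out

/-- the second point of the pair -/
noncomputable def pp : Pt := ptF (Data.cu.getD 2 [])

theorem pp_val : (pp : ℕ) = pt (Data.cu.getD 2 []) := ptF_val (ltW_cu 2)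

theorem pp_facts : pp ≠ 0 ∧ ρ (mem 0) pp = pp := by
  refine ⟨fun e => ?_, ?_⟩
  · have h := pair_ne.1
    rw [← pp_val, e] at h
    exact Bool.noConfusion h
  · have h := pair_ne.2
    rw [← pp_val, adjb_iff (u := []) rfl] at h
    have e0 : ptF [] = (0 : Pt) := Fin.ext (ptF_val (u := []) rfl)
    rwa [e0] at h

theorem perm_conj_mul (g : G) (β : MulAut G) (x : Pt) :
    perm ((MulAut.conj g)⁻¹ * β * MulAut.conj g) x = ρ g⁻¹ (perm β (ρ g x)) := by
  rw [perm_mul, perm_mul, ← map_inv MulAut.conj g, perm_conj, perm_conj]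

theorem conj_invol {β : MulAut G} (hβ : β * β = 1) (A : MulAut G) :
    A⁻¹ * β * A * (A⁻¹ * β * A) = 1 := by
  rw [show A⁻¹ * β * A * (A⁻¹ * β * A) = A⁻¹ * (β * β) * A by group, hβ, mul_one, inv_mul_cancel]

theorem perm_invol {β : MulAut G} (hβ : β * β = 1) (x : Pt) : perm β (perm β x) = x := by
  rw [← perm_mul, hβ, perm_one]

theorem ρ_inv_apply (g : G) (x : Pt) : ρ g⁻¹ (ρ g x) = x := by
  rw [← Equiv.Perm.mul_apply, ← map_mul, inv_mul_cancel, map_one]; rfl

theorem inS_mem (x : Pt) : inS cols x = true ↔ x ≠ 0 ∧ ρ (mem 0) x = x := by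
  rw [hρ.inS_iff, mem_zero]

/-- every point of the set of neighbours is moved to the second point by an element fixing the first -/
theorem to_pp {y : Pt} (hy : inS cols y = true) : ∃ k : G, ρ k 0 = 0 ∧ ρ k pp = y := by
  obtain ⟨bs, hbs, hb, k, hk, hky⟩ := hρ.reach Fi22Main.H subW_lt
    (fun w hw => Subgroup.subset_closure ⟨w, hw, rfl⟩) stS_ok y hy
  rw [List.mem_singleton] at hbs; subst hbs
  refine ⟨k, (hρ.stab k).mpr hk, ?_⟩
  rw [← hky]
  exact congrArg _ (Fin.ext pp_val)

/-- a pair invariant up to conjugation -/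
theorem invariant_pair {β : MulAut G} (hβ : β * β = 1) :
    ∃ g : G, ∀ x : Pt, x = 0 ∨ x = pp →
      perm ((MulAut.conj g)⁻¹ * β * MulAut.conj g) x = 0 ∨
        perm ((MulAut.conj g)⁻¹ * β * MulAut.conj g) x = pp := by
  have fromFixed : ∀ β : MulAut G, β * β = 1 → perm β 0 = 0 →
      ∃ g : G, ∀ x : Pt, x = 0 ∨ x = pp →
        perm ((MulAut.conj g)⁻¹ * β * MulAut.conj g) x = 0 ∨
          perm ((MulAut.conj g)⁻¹ * β * MulAut.conj g) x = pp := by
    intro β hβ h0
    obtain ⟨y, hy, hyf⟩ := exists_fixed_of_odd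
      (Finset.univ.filter fun x : Pt => inS cols x = true) (perm β)
      (fun x hx => by
        simp only [Finset.mem_filter, Finset.mem_univ, true_and, inS_mem] at hx ⊢
        refine ⟨fun e => hx.1 (perm_inj β (e.trans h0.symm)), ?_⟩
        have := (perm_adj β 0 x).mpr hx.2
        rwa [h0] at this)
      (fun x _ => perm_invol hβ x) sCard
    simp only [Finset.mem_filter, Finset.mem_univ, true_and] at hy
    obtain ⟨k, hk0, hkp⟩ := to_pp hy
    refine ⟨k, fun x hx => ?_⟩
    rw [perm_conj_mul]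
    rcases hx with rfl | rfl
    · left
      rw [hk0, h0]
      conv_lhs => rw [← hk0, ρ_inv_apply]
    · right
      rw [hkp, hyf, ← hkp, ρ_inv_apply]
  by_cases hfix : ∃ z, perm β z = z
  · obtain ⟨z, hz⟩ := hfix
    obtain ⟨c, rfl⟩ := hρ.trans z
    obtain ⟨g, hg⟩ := fromFixed _ (conj_invol hβ (MulAut.conj c))
      (by rw [perm_conj_mul, hz, ρ_inv_apply])
    refine ⟨c * g, fun x hx => ?_⟩
    have e : (MulAut.conj (c * g))⁻¹ * β * MulAut.conj (c * g) =
        (MulAut.conj g)⁻¹ * ((MulAut.conj c)⁻¹ * β * MulAut.conj c) * MulAut.conj g := by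
      rw [map_mul]; group
    rw [e]
    exact hg x hx
  · push Not at hfix
    by_cases hadj : ρ (mem 0) (perm β 0) = perm β 0
    · obtain ⟨k, hk0, hkp⟩ := to_pp ((inS_mem _).mpr ⟨hfix 0, hadj⟩)
      refine ⟨k, fun x hx => ?_⟩
      rw [perm_conj_mul]
      rcases hx with rfl | rfl
      · right
        rw [hk0, ← hkp, ρ_inv_apply]
      · left
        rw [hkp, perm_invol hβ]
        conv_lhs => rw [← hk0, ρ_inv_apply]
    · exfalso
      refine hfix (ρ (mem 0) (perm β 0)) ?_
      rw [perm_move, perm_invol hβ]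
      exact (braid hadj).symm

/-! ### the common neighbours -/

/-- a common neighbour -/
noncomputable def cpt (i : Fin 180) : Pt := ptF (Data.comW.getD i.1 [])

theorem com_mem (i : Fin 180) : Data.comW.getD i.1 [] ∈ Data.comW := by
  rw [List.getD_eq_getElem _ _ (by rw [com_len]; exact i.2)]
  exact List.getElem_mem _

theorem com_lt (i : Fin 180) : ltW (Data.comW.getD i.1 []) = true := by
  have := List.all_eq_true.mp com_each _ (com_mem i)
  simp only [Bool.and_eq_true] at this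
  exact this.1

theorem cpt_val (i : Fin 180) : (cpt i : ℕ) = pt (Data.comW.getD i.1 []) := ptF_val (com_lt i)

/-- the property of a common neighbour -/
def IsCom (x : Pt) : Prop := x ≠ 0 ∧ x ≠ pp ∧ ρ (mem 0) x = x ∧ ρ (mem pp) x = x

theorem isCom_iff (x : Pt) : IsCom x ↔ inCom x = true := by
  have e0 : ptF [] = (0 : Pt) := Fin.ext (ptF_val (u := []) rfl)
  simp only [IsCom, inCom, Bool.and_eq_true, Bool.not_eq_true', ← Bool.not_eq_true, Nat.beq_eq,
    adjb_iff (u := []) rfl, adjb_iff (ltW_cu 2), e0, ← pp_val, Fin.val_inj, and_assoc]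
  rw [show ((x : ℕ) = 0) ↔ x = 0 from ⟨fun h => Fin.ext h, fun h => h ▸ rfl⟩]
  rfl

theorem cpt_com (i : Fin 180) : IsCom (cpt i) := by
  have := List.all_eq_true.mp com_each _ (com_mem i)
  simp only [Bool.and_eq_true] at this
  rw [isCom_iff, cpt_val]
  exact this.2

theorem cpt_surj {x : Pt} (hx : IsCom x) : ∃ i, cpt i = x := by
  obtain ⟨u, hu, he⟩ := List.mem_map.mp (coverB_mem com_cover x.isLt ((isCom_iff x).mp hx))
  obtain ⟨k, hk, rfl⟩ := List.getElem_of_mem hu
  have hk' : k < 180 := by rwa [com_len] at hk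
  refine ⟨⟨k, hk'⟩, Fin.ext ?_⟩
  rw [cpt_val, List.getD_eq_getElem _ _ hk]
  exact he

theorem cpt_inj : Function.Injective cpt := by
  intro i j h
  have hi : i.1 < (Data.comW.map pt).length := by rw [List.length_map, com_len]; exact i.2
  have hj : j.1 < (Data.comW.map pt).length := by rw [List.length_map, com_len]; exact j.2
  refine Fin.ext ((List.Nodup.getElem_inj_iff com_nodup (hi := hi) (hj := hj)).mp ?_)
  rw [List.getElem_map, List.getElem_map, ← List.getD_eq_getElem _ [], ← List.getD_eq_getElem _ [],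
    ← cpt_val, ← cpt_val, h]

theorem adjRow_iff (i j : Fin 180) : (adjRow i).testBit j = true ↔ ρ (mem (cpt i)) (cpt j) = cpt j := by
  have h := List.all_eq_true.mp com_adj i.1 (List.mem_range.mpr i.2)
  rw [force_eq] at h
  have h2 := List.all_eq_true.mp h j.1 (List.mem_range.mpr j.2)
  rw [beq_iff_eq, ← cpt_val] at h2
  rw [← h2]
  exact adjb_iff (com_lt i) (cpt j)

theorem adjRow_lt : (Data.adjM.all fun m => Nat.blt m (2 ^ 180)) = true := by decide +kernel

theorem row_lt (i : ℕ) : adjRow i < 2 ^ 180 := by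
  rw [adjRow]
  by_cases h : i < Data.adjM.length
  · rw [List.getD_eq_getElem _ _ h]
    simpa using List.all_eq_true.mp adjRow_lt _ (List.getElem_mem h)
  · rw [List.getD_eq_default _ _ (by omega)]; exact Nat.two_pow_pos 180

theorem bit180 {n i : ℕ} (hn : n < 2 ^ 180) (hi : n.testBit i = true) : i < 180 := by
  by_contra hge
  have := Nat.testBit_lt_two_pow
    (lt_of_lt_of_le hn (Nat.pow_le_pow_right (by norm_num) (not_lt.mp hge)))
  rw [hi] at this
  exact Bool.false_ne_true this.symm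

/-- the mask of a line -/
def lmask (l : Fin 27) : ℕ := (Data.lines.getD l.1 (0, 0, 0, [])).1

theorem line_mem (l : Fin 27) : Data.lines.getD l.1 (0, 0, 0, []) ∈ Data.lines := by
  rw [List.getD_eq_getElem _ _ (by rw [lines_count.2]; exact l.2)]
  exact List.getElem_mem _

theorem line_spec (l : Fin 27) :
    lmask l < 2 ^ 180 ∧ (∃ i j : Fin 180, i ≠ j ∧ (adjRow i).testBit j = true ∧
      adjRow i &&& adjRow j = lmask l) ∧
      ∀ u v : Fin 180, (lmask l).testBit u = true → (lmask l).testBit v = true →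
        (adjRow u).testBit v = true := by
  have h := List.all_eq_true.mp line_ok _ (line_mem l)
  simp only [Bool.and_eq_true, Nat.blt_eq, Bool.not_eq_true', ← Bool.not_eq_true, Nat.beq_eq,
    List.all_eq_true, List.mem_range, Bool.or_eq_true] at h
  obtain ⟨⟨⟨⟨⟨⟨⟨h1, hi⟩, hj⟩, hne⟩, hb⟩, heq⟩, hcl⟩, -⟩ := h
  refine ⟨h1, ⟨⟨_, hi⟩, ⟨_, hj⟩, fun e => hne (congrArg Fin.val e), hb, heq⟩, fun u v hu hv => ?_⟩
  rcases hcl u.1 u.2 with q | q
  · exact absurd hu q
  · have hv' : ((lmask l) &&& adjRow u).testBit v = true := by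
      rw [show lmask l &&& adjRow u = lmask l from q]; exact hv
    rw [Nat.testBit_and, Bool.and_eq_true] at hv'
    exact hv'.2

theorem lmask_inj : Function.Injective lmask := by
  intro l m h
  have hl : l.1 < (Data.lines.map fun t => t.1).length := by
    rw [List.length_map, lines_count.2]; exact l.2
  have hm : m.1 < (Data.lines.map fun t => t.1).length := by
    rw [List.length_map, lines_count.2]; exact m.2
  refine Fin.ext ((List.Nodup.getElem_inj_iff lines_count.1 (hi := hl) (hj := hm)).mp ?_)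
  rw [List.getElem_map, List.getElem_map, ← List.getD_eq_getElem _ (0, 0, 0, []),
    ← List.getD_eq_getElem _ (0, 0, 0, [])]
  exact h

theorem line_image {f : Fin 180 → Fin 180} (hf : Function.Bijective f)
    (hadj : ∀ i j : Fin 180, (adjRow (f i)).testBit (f j) = (adjRow i).testBit j) (l : Fin 27) :
    ∃ m : Fin 27, ∀ k : Fin 180, (lmask m).testBit (f k) = (lmask l).testBit k := by
  obtain ⟨-, ⟨i, j, hne, hb, heq⟩, hcl⟩ := line_spec l
  have hp := List.all_eq_true.mp (List.all_eq_true.mp pair_ok (f i).1 (List.mem_range.mpr (f i).2))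
    (f j).1 (List.mem_range.mpr (f j).2)
  simp only [Bool.or_eq_true, Nat.beq_eq, Bool.not_eq_true', force_eq] at hp
  rcases hp with (q | q) | q | q
  · exact absurd (hf.1 (Fin.ext q)) hne
  · rw [hadj, hb] at q; exact absurd q (by simp)
  · obtain ⟨t, ht, hte⟩ := List.any_eq_true.mp q
    obtain ⟨k, hk, rfl⟩ := List.getElem_of_mem ht
    refine ⟨⟨k, by rwa [lines_count.2] at hk⟩, fun u => ?_⟩
    rw [lmask, List.getD_eq_getElem _ _ hk, Nat.eq_of_beq_eq_true hte, Nat.testBit_and, hadj, hadj,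
      ← heq, Nat.testBit_and]
  · exfalso
    obtain ⟨u, hu, hub⟩ := List.any_eq_true.mp q
    simp only [Bool.and_eq_true, Bool.not_eq_true', ← Bool.not_eq_true, Nat.beq_eq] at hub
    obtain ⟨hubit, hne'⟩ := hub
    refine hne' (Nat.eq_of_testBit_eq fun v => ?_)
    rw [Nat.testBit_and]
    cases hv : (adjRow (f i) &&& adjRow (f j)).testBit v
    · rfl
    · rw [Bool.true_and]
      have hlt : adjRow (f i).1 &&& adjRow (f j).1 < 2 ^ 180 :=
        Nat.and_lt_two_pow _ (row_lt _)
      obtain ⟨u0, hu0⟩ := hf.2 ⟨u, List.mem_range.mp hu⟩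
      obtain ⟨v0, hv0⟩ := hf.2 ⟨v, bit180 hlt hv⟩
      have hmem : ∀ w : Fin 180, (adjRow (f i) &&& adjRow (f j)).testBit (f w) = true →
          (lmask l).testBit w = true := fun w hw => by
        rw [← heq, Nat.testBit_and]
        rwa [Nat.testBit_and, hadj, hadj] at hw
      have h1 := hmem u0 (by rw [hu0]; exact hubit)
      have h2 := hmem v0 (by rw [hv0]; exact hv)
      have h3 := hcl u0 v0 h1 h2
      rw [← hadj, hu0, hv0] at h3
      exact h3

/-- an involution with an invariant pair has an invariant line -/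
theorem invariant_line {β : MulAut G} (hβ : β * β = 1)
    (hpair : ∀ x : Pt, x = 0 ∨ x = pp → perm β x = 0 ∨ perm β x = pp) :
    ∃ (l : Fin 27), ∀ k : Fin 180, (lmask l).testBit k = true →
      ∃ k' : Fin 180, perm β (cpt k) = cpt k' ∧ (lmask l).testBit k' = true := by
  classical
  have hcom : ∀ i, IsCom (perm β (cpt i)) := by
    intro i
    obtain ⟨h0, hp, a0, ap⟩ := cpt_com i
    have b0 := (perm_adj β 0 (cpt i)).mpr a0
    have bp := (perm_adj β pp (cpt i)).mpr ap
    have hd : perm β 0 ≠ perm β pp := fun e => pp_facts.1 (perm_inj β e).symm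
    have n0 : perm β (cpt i) ≠ perm β 0 := fun e => h0 (perm_inj β e)
    have np : perm β (cpt i) ≠ perm β pp := fun e => hp (perm_inj β e)
    rcases hpair 0 (Or.inl rfl) with e1 | e1 <;> rcases hpair pp (Or.inr rfl) with e2 | e2
    · exact absurd (e1.trans e2.symm) hd
    · rw [e1] at b0 n0; rw [e2] at bp np; exact ⟨n0, np, b0, bp⟩
    · rw [e1] at b0 n0; rw [e2] at bp np; exact ⟨np, n0, bp, b0⟩
    · exact absurd (e1.trans e2.symm) hd
  choose f hf using fun i => cpt_surj (hcom i)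
  have hff : ∀ i, f (f i) = i := fun i => cpt_inj (by rw [hf, hf, perm_invol hβ])
  have hbij : Function.Bijective f := Function.Involutive.bijective hff
  have hadj : ∀ i j : Fin 180, (adjRow (f i)).testBit (f j) = (adjRow i).testBit j := fun i j => by
    rw [Bool.eq_iff_iff, adjRow_iff, adjRow_iff, hf, hf, perm_adj]
  choose F hF using line_image hbij hadj
  have hFF : ∀ l, F (F l) = l := fun l => lmask_inj (Nat.eq_of_testBit_eq fun k => by
    by_cases hk : k < 180
    · have := hF (F l) (f ⟨k, hk⟩)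
      rw [hff] at this
      rw [this, hF]
    · rw [Bool.eq_false_iff.mpr fun h => hk (bit180 (line_spec (F (F l))).1 h),
        Bool.eq_false_iff.mpr fun h => hk (bit180 (line_spec l).1 h)])
  obtain ⟨l, -, hl⟩ := exists_fixed_of_odd (Finset.univ : Finset (Fin 27)) F
    (fun x _ => Finset.mem_univ _) (fun x _ => hFF x) (by simp)
  exact ⟨l, fun k hk => ⟨f k, (hf k).symm, by rw [← hl, hF, hk]⟩⟩

/-- the classes -/
theorem outer_classes {β : MulAut G} (hβ : β * β = 1)
    (hout : β ∉ (MulAut.conj : G →* MulAut G).range) :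
    IsConj β sigma ∨ IsConj β sa ∨ IsConj β sab := by
  obtain ⟨g, hg⟩ := invariant_pair hβ
  set β₁ := (MulAut.conj g)⁻¹ * β * MulAut.conj g with hβ₁
  have hβ₁' : β₁ * β₁ = 1 := conj_invol hβ _
  obtain ⟨l, hl⟩ := invariant_line hβ₁' hg
  set t := Data.lines.getD l.1 (0, 0, 0, []) with ht
  have hmv : t.2.2.2.all ltW = true := by
    have h := List.all_eq_true.mp line_ok _ (line_mem l)
    simp only [Bool.and_eq_true] at h
    exact h.2
  have hmove := List.all_eq_true.mp line_move _ (line_mem l)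
  simp only [Bool.and_eq_true, List.all_eq_true] at hmove
  -- the set of 22
  let InS : Pt → Prop := fun x => (x = 0 ∨ x = pp) ∨ ∃ k : Fin 180, (lmask l).testBit k = true ∧ x = cpt k
  have hval : ∀ x : Pt, InS x → (x : ℕ) ∈ linePts t.1 := by
    rintro x ((rfl | rfl) | ⟨k, hk, rfl⟩)
    · exact List.mem_cons_self
    · exact List.mem_cons_of_mem _ (by rw [pp_val]; exact List.mem_cons_self)
    · refine List.mem_cons_of_mem _ (List.mem_cons_of_mem _ (List.mem_map.mpr ⟨k.1, ?_, (cpt_val k).symm⟩))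
      exact List.mem_filter.mpr ⟨List.mem_range.mpr k.2, hk⟩
  have hback : ∀ s ∈ linePts t.1, ∃ x : Pt, InS x ∧ (x : ℕ) = s := by
    intro s hs
    simp only [linePts, List.mem_cons, List.mem_map, List.mem_filter, List.mem_range] at hs
    rcases hs with rfl | rfl | ⟨k, ⟨hk, hb⟩, rfl⟩
    · exact ⟨0, Or.inl (Or.inl rfl), rfl⟩
    · exact ⟨pp, Or.inl (Or.inr rfl), pp_val⟩
    · exact ⟨cpt ⟨k, hk⟩, Or.inr ⟨⟨k, hk⟩, hb, rfl⟩, cpt_val _⟩
  have hInS : ∀ x, InS x → InS (perm β₁ x) := by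
    rintro x (hx | ⟨k, hk, rfl⟩)
    · exact Or.inl (hg x hx)
    · obtain ⟨k', e, hk'⟩ := hl k hk
      exact Or.inr ⟨k', hk', e⟩
  set A := Aw (pW t.2.2.2) with hA
  have hfun : ∀ i : Fin 22, ∃ j : Fin 22, perm (A * β₁ * A⁻¹) (bpt i) = bpt j := by
    intro i
    obtain ⟨s, hs, hse⟩ := List.any_eq_true.mp (hmove.2 _ (b0_mem i))
    obtain ⟨x, hx, hxs⟩ := hback s hs
    have hAx : perm A x = bpt i := Fin.ext (by
      rw [hA, perm_Aw (ltW_pW hmv), bpt_val, hxs]; exact Nat.eq_of_beq_eq_true hse)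
    obtain ⟨b, hb, hbe⟩ := List.any_eq_true.mp (hmove.1 _ (hval _ (hInS x hx)))
    obtain ⟨j, hj⟩ := exists_bpt hb
    refine ⟨j, ?_⟩
    rw [perm_mul, perm_mul, ← hAx, perm_inv_apply, hj]
    exact Fin.ext (by rw [hA, perm_Aw (ltW_pW hmv), ptF_val (b0_lt hb)]; exact Nat.eq_of_beq_eq_true hbe)
  choose f hf using hfun
  have hsq : A * β₁ * A⁻¹ * (A * β₁ * A⁻¹) = 1 := by
    rw [show A * β₁ * A⁻¹ * (A * β₁ * A⁻¹) = A * (β₁ * β₁) * A⁻¹ by group, hβ₁', mul_one,
      mul_inv_cancel]
  have hconj : IsConj β (A * β₁ * A⁻¹) := by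
    refine isConj_iff.mpr ⟨A * (MulAut.conj g)⁻¹, ?_⟩
    rw [hβ₁]; group
  have hout' : A * β₁ * A⁻¹ ∉ (MulAut.conj : G →* MulAut G).range := by
    intro h
    refine hout ?_
    obtain ⟨c, hc⟩ := h
    obtain ⟨d, hd⟩ := isConj_iff.mp hconj.symm
    refine ⟨d c, ?_⟩
    rw [← hd, ← hc]
    refine MulEquiv.ext fun x => ?_
    simp [MulAut.mul_apply]
  obtain ⟨i, hi, hci⟩ := base_class hsq hf hout'
  have hβi := hconj.trans hci
  interval_cases i
  · exact Or.inl hβi
  · exact Or.inr (Or.inl hβi)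
  · exact Or.inr (Or.inr hβi)

end Cfsg.Agent.H39.Fi22Invol
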