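import Cfsg.Agent.H39.Fi22Invol.OrthChecks
import Cfsg.Agent.Cores.PCore
import Cfsg.Prelude.Def_Transfer

/-!
The fixed subgroup of the third involution: an elementary group of order 64 extended by the isometry
group of the elliptic quadratic form in dimension six over two elements.
-/

set_option autoImplicit false
set_option maxRecDepth 100000

namespace Cfsg.Agent.H39.Fi22Invol

open Cfsg.Agent.H45 Cfsg.Agent.H46.Fi22Out
open Matrix

/-- coordinates -/
abbrev IxO : Type := (Fin 2 ⊕ Fin 2) ⊕ Fin 2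

/-- matrices -/
abbrev N6 : Type := Matrix IxO IxO (ZMod 2)

/-- preserving the form -/
def goodO (M : N6) : Prop :=
  (∀ v, Qm (M *ᵥ v) = Qm v) ∧ Function.Injective fun v => M *ᵥ v

theorem goodO_one : goodO 1 :=
  ⟨fun v => by rw [Matrix.one_mulVec],
    fun u v h => by simpa only [Matrix.one_mulVec] using h⟩

theorem goodO_mul {M N : N6} (hM : goodO M) (hN : goodO N) : goodO (M * N) :=
  ⟨fun v => by rw [← Matrix.mulVec_mulVec, hM.1, hN.1],
    fun u v h => hN.2 (hM.2 (by simpa only [Matrix.mulVec_mulVec] using h))⟩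

theorem injO (n m : ℕ) (hn : n < 64) (hm : m < 64) (h : vec ixO n = vec ixO m) : n = m :=
  of_decide_eq_true (List.all_eq_true.mp (injO_aux ⟨n, hn⟩) m (List.mem_range.mpr hm)) h

theorem app_linO (c : List ℕ) (n : ℕ) (_hn : n < 64) :
    vec ixO (app c n) = Mx ixO c *ᵥ vec ixO n ∧ ((∀ k, c.getD k 0 < 64) → app c n < 64) := by
  refine ⟨funext fun i => ?_, fun h => ?_⟩
  · simp only [vec, app, bitZ_xor, bitZ_scale, Matrix.mulVec, dotProduct, Mx, Fintype.sum_sum_type,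
      Fin.sum_univ_two, ixO]
    simp only [Fin.val_zero, Fin.val_one, bitZ]
    ring
  · have : ∀ (b : Bool) k, (bif b then c.getD k 0 else 0) < 2 ^ 6 := fun b k => by
      cases b
      · exact Nat.two_pow_pos 6
      · exact h k
    exact Nat.xor_lt_two_pow (Nat.xor_lt_two_pow (Nat.xor_lt_two_pow (Nat.xor_lt_two_pow
      (Nat.xor_lt_two_pow (this _ 0) (this _ 1)) (this _ 2)) (this _ 3)) (this _ 4)) (this _ 5)

theorem qn_eq {n : ℕ} (hn : n < 64) : Qm (vec ixO n) = bif qn n then 1 else 0 := qn_form ⟨n, hn⟩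

theorem qn_pres {M : N6} (hM : goodO M) {n w : ℕ} (hn : n < 64) (hw : w < 64)
    (he : vec ixO w = M *ᵥ vec ixO n) : qn w = qn n := by
  have h := hM.1 (vec ixO n)
  rw [← he, qn_eq hw, qn_eq hn] at h
  cases h1 : qn w <;> cases h2 : qn n <;> rw [h1, h2] at h <;> simp_all

theorem bn_pres {M : N6} (hM : goodO M) (n m w z : ℕ) (hn : n < 64) (hm : m < 64) (hw : w < 64)
    (hz : z < 64) (e1 : vec ixO w = M *ᵥ vec ixO n) (e2 : vec ixO z = M *ᵥ vec ixO m) :
    bn w z = bn n m := by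
  have e3 : vec ixO (w ^^^ z) = M *ᵥ vec ixO (n ^^^ m) := by
    rw [vec_xor, vec_xor, Matrix.mulVec_add, e1, e2]
  rw [bn, bn, qn_pres hM hn hw e1, qn_pres hM hm hz e2,
    qn_pres hM (n := n ^^^ m) (w := w ^^^ z) (Nat.xor_lt_two_pow (n := 6) hn hm)
      (Nat.xor_lt_two_pow (n := 6) hw hz) e3]

/-- fixed by the third automorphism -/
def In2 (x : Pt) : Prop := isF sabN x = true

theorem f2_mem {x : Pt} (hx : In2 x) : ∃ u ∈ Data.f2W, ptF u = x := by
  have h := v2_facts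
  simp only [Bool.and_eq_true] at h
  obtain ⟨u, hu, he⟩ := List.mem_map.mp (coverB_mem h.1.1 x.isLt hx)
  have := List.all_eq_true.mp h.1.2 u hu
  simp only [Bool.and_eq_true] at this
  exact ⟨u, hu, Fin.ext (by rw [ptF_val this.1.1.1.1, he])⟩

theorem f2_spec {u : List ℕ} (hu : u ∈ Data.f2W) :
    ltW u = true ∧ In2 (ptF u) ∧ qn (v2 (ptF u : Pt)) = true ∧ v2 (ptF u : Pt) < 64 := by
  have h := v2_facts
  simp only [Bool.and_eq_true] at h
  have := List.all_eq_true.mp h.1.2 u hu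
  simp only [Bool.and_eq_true, Nat.blt_eq] at this
  obtain ⟨⟨⟨⟨hlt, h1⟩, h2⟩, h3⟩, -⟩ := this
  exact ⟨hlt, by rw [In2, ptF_val hlt]; exact h1, by rw [ptF_val hlt]; exact h2,
    by rw [ptF_val hlt]; exact h3⟩

theorem v2_lt {x : Pt} (hx : In2 x) : v2 x < 64 := by
  obtain ⟨u, hu, rfl⟩ := f2_mem hx; exact (f2_spec hu).2.2.2

theorem csab_in {h : G} (hh : h ∈ fixOf sab) {x : Pt} (hx : In2 x) : In2 (ρ h x) := by
  rw [In2, isF_iff perm_sab] at hx ⊢
  rw [perm_fix hh, hx]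

/-- the matrix of an element -/
def P2 (g : G) (M : N6) : Prop :=
  goodO M ∧ ∀ x : Pt, In2 x → vec ixO (v2 (ρ g x)) = M *ᵥ vec ixO (v2 x)

theorem P2_one : P2 1 1 := ⟨goodO_one, fun x _ => by rw [map_one, Matrix.one_mulVec]; rfl⟩

theorem P2_mul {g h : G} {M N : N6} (hh : h ∈ fixOf sab) (p : P2 g M) (q : P2 h N) :
    P2 (g * h) (M * N) :=
  ⟨goodO_mul p.1 q.1, fun x hx => by
    rw [map_mul, Equiv.Perm.mul_apply, p.2 _ (csab_in hh hx), q.2 x hx, Matrix.mulVec_mulVec]⟩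

theorem genTwo_lt {t : List (List ℕ) × List ℕ} (ht : t ∈ Data.genTwo) : t.1.all ltW = true := by
  have hg := gensB_facts
  simp only [Bool.and_eq_true] at hg
  refine List.all_eq_true.mpr fun u hu => ?_
  have := List.all_eq_true.mp
    (List.all_eq_true.mp hg.1 t.1 (List.mem_map_of_mem (f := fun t => t.1) ht)) u hu
  simp only [Bool.and_eq_true] at this
  exact this.1

theorem genTwo_mem {t : List (List ℕ) × List ℕ} (ht : t ∈ Data.genTwo) :
    evalW e (pW t.1) ∈ fixOf sab := by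
  rw [csab_eq]
  exact Subgroup.subset_closure ⟨t.1, List.mem_map_of_mem (f := fun t => t.1) ht, rfl⟩

theorem surjective_mulVec {M : N6} (h : Function.Injective fun v => M *ᵥ v) :
    Function.Surjective fun v => M *ᵥ v := Finite.surjective_of_injective h

theorem P2_gen {t : List (List ℕ) × List ℕ} (ht : t ∈ Data.genTwo) :
    P2 (evalW e (pW t.1))⁻¹ (Mx ixO t.2) ∧ ∀ k, t.2.getD k 0 < 64 := by
  have ho := List.all_eq_true.mp genTwo_ok t ht
  simp only [Bool.and_eq_true, List.all_eq_true, Nat.blt_eq, Nat.beq_eq] at ho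
  obtain ⟨⟨⟨h1, h2⟩, h3⟩, h4⟩ := ho
  have hlt : ∀ k, t.2.getD k 0 < 64 := fun k => by
    by_cases hk : k < 6
    · exact h3 k (List.mem_range.mpr hk)
    · rw [List.getD_eq_default _ _ (by omega)]; norm_num
  have hw := ltW_pW (genTwo_lt ht)
  have hM : ∀ x : Pt, In2 x →
      vec ixO (v2 (ρ (evalW e (pW t.1))⁻¹ x)) = Mx ixO t.2 *ᵥ vec ixO (v2 x) := by
    intro x hx
    have := allLt_sound h1 x x.isLt
    rw [show isF sabN x = true from hx, cond_true, Nat.beq_eq, ← wk_rep hw] at this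
    rw [← this]
    exact (app_linO _ _ (v2_lt hx)).1
  have hq : ∀ v, Qm (Mx ixO t.2 *ᵥ v) = Qm v := fun v => by
    obtain ⟨n, rfl⟩ := surjO v
    obtain ⟨he, hl⟩ := app_linO t.2 n n.isLt
    have := allLt_sound h2 n n.isLt
    rw [beq_iff_eq] at this
    rw [← he, qn_eq (hl hlt), qn_eq n.isLt, this]
  refine ⟨⟨⟨hq, ?_⟩, hM⟩, hlt⟩
  -- the image contains every non-singular vector
  refine Finite.injective_iff_surjective.mpr fun v => ?_
  obtain ⟨n, rfl⟩ := surjO v
  have hcov : ∀ m : ℕ, m < 64 → qn m = true → ∃ w, Mx ixO t.2 *ᵥ w = vec ixO m := by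
    intro m hm hqm
    have hv := v2_facts
    simp only [Bool.and_eq_true] at hv
    obtain ⟨u, hu, he⟩ := List.mem_map.mp (coverB_mem hv.2 hm hqm)
    rw [← ptF_val (f2_spec hu).1] at he
    have hg := inv_mem (genTwo_mem ht)
    have hy : In2 (ρ (evalW e (pW t.1)) (ptF u)) :=
      csab_in (genTwo_mem ht) (f2_spec hu).2.1
    refine ⟨vec ixO (v2 (ρ (evalW e (pW t.1)) (ptF u))), ?_⟩
    rw [← hM _ hy, ← Equiv.Perm.mul_apply, ← map_mul, inv_mul_cancel, map_one,
      Equiv.Perm.one_apply, he]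
  rcases qn_pairs n with hq1 | ⟨m, hm1, hm2⟩
  · exact hcov n n.isLt hq1
  · obtain ⟨w1, e1⟩ := hcov m m.isLt hm1
    obtain ⟨w2, e2⟩ := hcov (n ^^^ m) (Nat.xor_lt_two_pow (n := 6) n.isLt m.isLt) hm2
    refine ⟨w2 + w1, ?_⟩
    show Mx ixO t.2 *ᵥ (w2 + w1) = _
    rw [Matrix.mulVec_add, e1, e2, ← vec_xor, Nat.xor_assoc, Nat.xor_self, Nat.xor_zero]

theorem mem_mat {g : G} (hg : g ∈ fixOf sab) : ∃ M, P2 g M := by
  classical
  haveI := finite_G
  let T : Set G := {g | ∃ t ∈ Data.genTwo, (evalW e (pW t.1))⁻¹ = g}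
  have hle : fixOf sab ≤ Subgroup.closure T := by
    rw [csab_eq]
    refine (Subgroup.closure_le _).mpr ?_
    rintro _ ⟨us, hus, rfl⟩
    obtain ⟨t, ht, rfl⟩ := List.mem_map.mp hus
    have : (evalW e (pW t.1))⁻¹ ∈ Subgroup.closure T := Subgroup.subset_closure ⟨t, ht, rfl⟩
    simpa using inv_mem this
  have hmem : g ∈ Submonoid.closure T := by
    rw [← Subgroup.closure_toSubmonoid_of_finite]
    exact hle hg
  suffices h : g ∈ fixOf sab ∧ ∃ M, P2 g M from h.2
  clear hg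
  induction hmem using Submonoid.closure_induction with
  | mem x hx =>
    obtain ⟨t, ht, rfl⟩ := hx
    exact ⟨inv_mem (genTwo_mem ht), _, (P2_gen ht).1⟩
  | one => exact ⟨one_mem _, _, P2_one⟩
  | mul x y _ _ hx hy =>
    obtain ⟨hx1, M, hM⟩ := hx
    obtain ⟨hy1, N, hN⟩ := hy
    exact ⟨mul_mem hx1 hy1, _, P2_mul hy1 hM hN⟩

theorem P2_unique {g : G} {M N : N6} (p : P2 g M) (q : P2 g N) : M = N := by
  have hcov : ∀ m : ℕ, m < 64 → qn m = true → M *ᵥ vec ixO m = N *ᵥ vec ixO m := by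
    intro m hm hqm
    have hv := v2_facts
    simp only [Bool.and_eq_true] at hv
    obtain ⟨u, hu, he⟩ := List.mem_map.mp (coverB_mem hv.2 hm hqm)
    rw [← ptF_val (f2_spec hu).1] at he
    rw [← he, ← p.2 _ (f2_spec hu).2.1, ← q.2 _ (f2_spec hu).2.1]
  refine Matrix.ext_of_mulVec_single fun i => ?_
  obtain ⟨n, hn⟩ := surjO (Pi.single i 1)
  rw [← hn]
  rcases qn_pairs n with hq1 | ⟨m, hm1, hm2⟩
  · exact hcov n n.isLt hq1
  · have e : (n : ℕ) = (n ^^^ m : ℕ) ^^^ m := by rw [Nat.xor_assoc, Nat.xor_self, Nat.xor_zero]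
    rw [e, vec_xor, Matrix.mulVec_add, Matrix.mulVec_add, hcov m m.isLt hm1,
      hcov _ (Nat.xor_lt_two_pow (n := 6) n.isLt m.isLt) hm2]

/-- the isometry of an element -/
noncomputable def isoOf (g : ↥(fixOf sab)) :
    Cfsg.isometryGroup (ZMod 2) (Cfsg.quadFormMinus 2 (ZMod 2) 1 1) :=
  ⟨⟨(mem_mat g.2).choose, (mem_mat (inv_mem g.2)).choose,
      P2_unique (P2_mul (inv_mem g.2) (mem_mat g.2).choose_spec (mem_mat (inv_mem g.2)).choose_spec)
        (by rw [mul_inv_cancel]; exact P2_one),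
      P2_unique (P2_mul g.2 (mem_mat (inv_mem g.2)).choose_spec (mem_mat g.2).choose_spec)
        (by rw [inv_mul_cancel]; exact P2_one)⟩,
    fun u _ => (mem_mat g.2).choose_spec.1.1 u⟩

/-- the homomorphism -/
noncomputable def homTwo :
    ↥(fixOf sab) →* Cfsg.isometryGroup (ZMod 2) (Cfsg.quadFormMinus 2 (ZMod 2) 1 1) where
  toFun := isoOf
  map_one' := Subtype.ext (Units.ext (P2_unique (mem_mat (one_mem (fixOf sab))).choose_spec P2_one))
  map_mul' g h := Subtype.ext (Units.ext (P2_unique (mem_mat (g * h).2).choose_spec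
    (P2_mul h.2 (mem_mat g.2).choose_spec (mem_mat h.2).choose_spec)))

theorem homTwo_spec (g : ↥(fixOf sab)) : P2 g.1 ((homTwo g).1 : N6) := (mem_mat g.2).choose_spec

/-- the submonoid of matrices arising -/
noncomputable def imgTwo : Submonoid N6 where
  carrier := {M | ∃ g ∈ fixOf sab, P2 g M}
  one_mem' := ⟨1, one_mem _, P2_one⟩
  mul_mem' := by
    rintro M N ⟨g, hg, p⟩ ⟨h, hh, q⟩
    exact ⟨g * h, mul_mem hg hh, P2_mul hh p q⟩

theorem homTwo_surj : Function.Surjective homTwo := by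
  intro M
  have hgood : ∀ K ∈ imgTwo, goodO K := by rintro K ⟨g, -, p⟩; exact p.1
  have hinj : ∀ K ∈ imgTwo, Function.Injective fun v => K *ᵥ v := fun K hK => (hgood K hK).2
  have hgen : ∀ c ∈ Data.genTwo.map (fun t => t.2), Mx ixO c ∈ imgTwo ∧ ∀ k, c.getD k 0 < 64 := by
    intro c hc
    obtain ⟨t, ht, rfl⟩ := List.mem_map.mp hc
    exact ⟨⟨_, inv_mem (genTwo_mem ht), (P2_gen ht).1⟩, (P2_gen ht).2⟩
  have hok : ∀ N, goodO N → ∀ n w, n < 64 → w < 64 → vec ixO w = N *ᵥ vec ixO n →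
      qn n = true → qn w = true := fun N hN n w hn hw he hq => (qn_pres hN hn hw he).trans hq
  have hM : goodO (M.1 : N6) :=
    ⟨fun v => M.2 v v, fun u v h => by
      have h' := congrArg (fun x => ((M.1⁻¹ : Matrix.GeneralLinearGroup IxO (ZMod 2)) : N6) *ᵥ x) h
      simpa [Matrix.mulVec_mulVec, ← Units.val_mul] using h'⟩
  obtain ⟨K, hK, hKM⟩ := vchain_sound (ix := ixO) (S := imgTwo) (good := goodO) app_linO surjO
    injO hgen (fun K hK M hM => goodO_mul (hgood K hK) hM) (fun M hM => hM.2) hinj hok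
    (fun M hM n m w z hn hm hw hz e1 e2 => bn_pres hM n m w z hn hm hw hz e1 e2)
    Data.vchTwo [] vchTwo_ok (by simp) (M.1 : N6) hM (by simp)
  obtain ⟨K', hK', e⟩ := exists_left_inverse hinj hK
  have hKM' : K' = (M.1 : N6) := by rw [← one_mul (M.1 : N6), ← e, mul_assoc, hKM, mul_one]
  obtain ⟨g, hg, p⟩ := hK'
  exact ⟨⟨g, hg⟩, Subtype.ext (Units.ext ((P2_unique (homTwo_spec ⟨g, hg⟩) p).trans hKM'))⟩

theorem ker_iff {g : G} (hg : g ∈ fixOf sab) : homTwo ⟨g, hg⟩ = 1 ↔ g ∈ fixTwo := by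
  constructor
  · intro h
    refine ⟨hg, fun x hx => ?_⟩
    have hx' : In2 x := (isF_iff perm_sab x).mpr hx
    have := (homTwo_spec ⟨g, hg⟩).2 x hx'
    rw [h] at this
    exact injO _ _ (v2_lt (csab_in hg hx')) (v2_lt hx')
      (this.trans (Matrix.one_mulVec _))
  · intro h
    refine Subtype.ext (Units.ext (P2_unique (homTwo_spec ⟨g, hg⟩) ⟨goodO_one, fun x hx => ?_⟩))
    show vec ixO (v2 (ρ g x)) = (1 : N6) *ᵥ vec ixO (v2 x)
    rw [Matrix.one_mulVec, h.2 x ((isF_iff perm_sab x).mp hx)]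

/-- pointwise stabiliser of the 72 -/
theorem eq_one_of_fix72 {g : G} (hg : g ∈ fixOf sab) (h : ∀ u ∈ Data.f2W, ρ g (ptF u) = ptF u) :
    g = 1 := by
  have hz := kZ_facts
  simp only [Bool.and_eq_true] at hz
  refine Subgroup.mem_bot.mp (fixed_le perm_sab sab_sq not_inner_mul (P := fixTwo) bot_le bot_le
    (ok := fun _ => false) (fun us hu => by simp at hu) hz.1 (prev := Data.f2W)
    (List.all_eq_true.mpr fun u hu => (f2_spec hu).1) hz.2 (fun k hk hkP x => ?_) hg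
    ⟨hg, fun x hx => ?_⟩ h)
  · simp only [RKB]
    by_cases hx : isF sabN x = true
    · have hx' := (isF_iff perm_sab x).mp hx
      rw [hx', hkP.2 x hx', (show isF sabN (ρ k x) = true from csab_in hk hx)]
      simp
    · simp [Bool.eq_false_iff.mpr hx]
  · obtain ⟨u, hu, rfl⟩ := f2_mem ((isF_iff perm_sab x).mpr hx)
    rw [h u hu]

theorem fibre {x y z : Pt} (hx : In2 x) (hy : In2 y) (hz : In2 z) (e1 : v2 y = v2 x)
    (e2 : v2 z = v2 x) (hxy : y ≠ x) (hxz : z ≠ x) : y = z := by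
  by_contra hne
  obtain ⟨u, hu, rfl⟩ := f2_mem hx
  have hv := v2_facts
  simp only [Bool.and_eq_true] at hv
  have h := List.all_eq_true.mp hv.1.2 u hu
  simp only [Bool.and_eq_true, Nat.beq_eq, ← ptF_val (f2_spec hu).1] at h
  set L := (Data.f2W.map pt).filter fun y => Nat.beq (v2 y) (v2 (ptF u : Pt)) with hL
  have hmem : ∀ p : Pt, In2 p → v2 p = v2 (ptF u : Pt) → (p : ℕ) ∈ L := fun p hp e => by
    obtain ⟨v, hvm, rfl⟩ := f2_mem hp
    exact List.mem_filter.mpr ⟨List.mem_map.mpr ⟨v, hvm, (ptF_val (f2_spec hvm).1).symm⟩,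
      by rw [Nat.beq_eq]; exact e⟩
  have h3 : [(ptF u : ℕ), (y : ℕ), (z : ℕ)].Nodup := by
    simp [Fin.val_inj, hne, Ne.symm hxy, Ne.symm hxz]
  have := (h3.subperm fun p hp => ?_).length_le (l₂ := L)
  · rw [h.2] at this; simp at this
  · simp only [List.mem_cons, List.not_mem_nil, or_false] at hp
    rcases hp with rfl | rfl | rfl
    exacts [hmem _ hx rfl, hmem _ hy e1, hmem _ hz e2]

theorem fixTwo_swap {g : G} (hg : g ∈ fixTwo) {x : Pt} (hx : In2 x) : ρ g (ρ g x) = x := by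
  by_cases h : ρ g x = x
  · rw [h, h]
  by_contra hne
  have hx' := (isF_iff perm_sab x).mp hx
  have h1 := csab_in hg.1 hx
  refine h ?_
  have e1 := hg.2 x hx'
  have e2 := (hg.2 _ ((isF_iff perm_sab _).mp h1)).trans e1
  exact ((ρ g).injective (fibre hx h1 (csab_in hg.1 h1) e1 e2 h hne)).symm

theorem fixTwo_sq {g : G} (hg : g ∈ fixTwo) : g * g = 1 := by
  refine eq_one_of_fix72 (mul_mem hg.1 hg.1) fun u hu => ?_
  rw [map_mul, Equiv.Perm.mul_apply]
  exact fixTwo_swap hg (f2_spec hu).2.1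

theorem fixTwo_comm {g h : G} (hg : g ∈ fixTwo) (hh : h ∈ fixTwo) : g * h = h * g := by
  have h1 := fixTwo_sq hg
  have h2 := fixTwo_sq hh
  have h3 := fixTwo_sq (mul_mem hg hh)
  calc g * h = (g * h)⁻¹ := (inv_eq_of_mul_eq_one_right h3).symm
    _ = h * g := by
      rw [_root_.mul_inv_rev, inv_eq_of_mul_eq_one_right h1, inv_eq_of_mul_eq_one_right h2]

theorem card_fixTwo : Nat.card fixTwo = 64 := by
  set b : ℕ → G := fun i => evalW e (pW (Data.genKer.getD i [])) with hb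
  have hmem : ∀ i < 6, b i ∈ fixTwo := fun i hi => by
    rw [kerB]
    refine Subgroup.subset_closure ⟨Data.genKer.getD i [], ?_, rfl⟩
    rw [List.getD_eq_getElem _ _ (by rw [genKer_len]; omega)]
    exact List.getElem_mem _
  have hc : ∀ i < 6, ∀ j < 6, Commute (b i) (b j) := fun i hi j hj =>
    fixTwo_comm (hmem i hi) (hmem j hj)
  have h2 : ∀ i < 6, b i * b i = 1 := fun i hi => fixTwo_sq (hmem i hi)
  have hall : ∀ x ∈ fixTwo, ∃ c, c < 2 ^ 6 ∧ mk b 6 c = x := fun x hx => by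
    rw [kerB] at hx
    refine mem_closure_mk hc h2 ?_ hx
    rintro _ ⟨us, hus, rfl⟩
    obtain ⟨i, hi, rfl⟩ := List.getElem_of_mem hus
    rw [genKer_len] at hi
    refine ⟨2 ^ i, Nat.pow_lt_pow_right (by norm_num) hi, (mk_single hi).trans ?_⟩
    rw [hb]
    simp only
    rw [List.getD_eq_getElem]
  have hdist : ∀ c, c < 2 ^ 6 → mk b 6 c = 1 → c = 0 := by
    intro c hc' he
    have := allLt_sound ker_distinct c hc'
    simp only [Bool.or_eq_true, Nat.beq_eq] at this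
    rcases this with q | q
    · exact q
    exfalso
    obtain ⟨u, hu, hne⟩ := List.any_eq_true.mp q
    have hl : ∀ n, (wordC Data.genKer n c).all ltW = true := by
      intro n
      induction n with
      | zero => rfl
      | succ n ih =>
        rw [wordC, List.all_append, ih, Bool.and_true]
        cases c.testBit n
        · rfl
        · refine List.all_eq_true.mpr fun v hv => ?_
          have hm : ∀ us ∈ Data.genKer, us.all ltW = true := by decide +kernel
          by_cases hn : n < Data.genKer.length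
          · rw [cond_true, List.getD_eq_getElem _ _ hn] at hv
            exact List.all_eq_true.mp (hm _ (List.getElem_mem hn)) v hv
          · rw [cond_true, List.getD_eq_default _ _ (by omega)] at hv; simp at hv
    simp only [Bool.not_eq_true', ← Bool.not_eq_true, Nat.beq_eq] at hne
    refine hne ?_
    rw [← ptF_val (f2_spec hu).1, ← wk_rep (ltW_pW (hl 6)), eval_wordC, show mk _ 6 c = (1 : G) from he,
      inv_one, map_one, Equiv.Perm.one_apply]
  let f : Fin (2 ^ 6) → fixTwo := fun c => ⟨mk b 6 c, mk_mem hmem c⟩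
  have hf : Function.Bijective f := by
    constructor
    · intro c d h
      have h' : mk b 6 c = mk b 6 d := congrArg Subtype.val h
      refine Fin.ext (Nat.xor_eq_zero_iff.mp (hdist _ (Nat.xor_lt_two_pow c.isLt d.isLt) ?_))
      rw [mk_xor hc h2, h', mk_sq hc h2]
    · rintro ⟨x, hx⟩
      obtain ⟨c, hc', rfl⟩ := hall x hx
      exact ⟨⟨c, hc'⟩, rfl⟩
  rw [← Nat.card_congr (Equiv.ofBijective f hf), Nat.card_fin]
  norm_num

theorem core_adj {n : ↥(fixOf sab)} (hn : n ∈ Cfsg.pCore 2 ↥(fixOf sab)) {x : Pt} (hx : In2 x) :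
    ρ (mem x) (ρ n.1 x) = ρ n.1 x := by
  by_contra hne
  set y := ρ n.1 x with hy
  have hxC : mem x ∈ fixOf sab := mem_fixed.mpr ((isF_iff perm_sab x).mp hx)
  haveI := finite_G
  haveI : (Cfsg.pCore 2 ↥(fixOf sab)).Normal := Subgroup.normal_of_characteristic _
  let m : ↥(fixOf sab) := ⟨mem x, hxC⟩
  have hc : n * (m * n⁻¹ * m⁻¹) ∈ Cfsg.pCore 2 ↥(fixOf sab) :=
    mul_mem hn (Subgroup.Normal.conj_mem inferInstance _ (inv_mem hn) m)
  obtain ⟨k, hk⟩ := Cores.pCore_isPGroup (p := 2) ⟨_, hc⟩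
  have hval : (n * (m * n⁻¹ * m⁻¹) : ↥(fixOf sab)).1 = mem y * mem x := by
    show n.1 * (mem x * n.1⁻¹ * (mem x)⁻¹) = _
    rw [hy, ← conj_mem, mem_inv]; group
  have hpow : (mem y * mem x) ^ 2 ^ k = 1 := by
    have := congrArg (fun q : ↥(Cfsg.pCore 2 ↥(fixOf sab)) => q.1.1) hk
    simpa [hval] using this
  have h3 : (mem y * mem x) ^ 3 = 1 := by
    have hb := braid_mul (x := x) (y := y) hne
    calc (mem y * mem x) ^ 3 = mem y * (mem x * mem y * mem x) * mem y * mem x := by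
          simp only [pow_succ, pow_zero, one_mul, mul_assoc]
      _ = mem y * (mem y * mem x * mem y) * mem y * mem x := by rw [hb]
      _ = (mem y * mem y) * mem x * (mem y * mem y) * mem x := by simp only [mul_assoc]
      _ = 1 := by rw [mem_sq, one_mul, mul_one, mem_sq]
  have h1 : mem y * mem x = 1 := by
    have hd : orderOf (mem y * mem x) ∣ Nat.gcd (2 ^ k) 3 :=
      Nat.dvd_gcd (orderOf_dvd_of_pow_eq_one hpow) (orderOf_dvd_of_pow_eq_one h3)
    rw [Nat.Coprime.pow_left k (by norm_num : Nat.Coprime 2 3)] at hd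
    exact orderOf_eq_one_iff.mp (Nat.dvd_one.mp hd)
  have hyx : y = x := mem_inj ((eq_inv_of_mul_eq_one_left h1).trans (mem_inv x))
  exact hne (by rw [hyx]; exact mem_fix x)

theorem core_le {n : ↥(fixOf sab)} (hn : n ∈ Cfsg.pCore 2 ↥(fixOf sab)) : n.1 ∈ fixTwo := by
  haveI := finite_G
  haveI : (Cfsg.pCore 2 ↥(fixOf sab)).Normal := Subgroup.normal_of_characteristic _
  refine ⟨n.2, fun x hx => ?_⟩
  have hx2 : In2 x := (isF_iff perm_sab x).mpr hx
  by_contra hne
  have hadj := core_adj hn hx2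
  set y := ρ n.1 x with hy
  have hy2 : In2 y := csab_in n.2 hx2
  obtain ⟨u, hu, hue⟩ := f2_mem hx2
  obtain ⟨v, hv, hve⟩ := f2_mem hy2
  have hs := List.all_eq_true.mp (List.all_eq_true.mp separate u hu) v hv
  simp only [Bool.or_eq_true, Nat.beq_eq, ← ptF_val (f2_spec hu).1, ← ptF_val (f2_spec hv).1] at hs
  rcases hs with (q | q) | q
  · rw [hue, hve] at q; exact hne q.symm
  · rw [Bool.not_eq_true', ← Bool.not_eq_true, adjb_iff (f2_spec hu).1, hue, hve] at q
    exact q hadj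
  obtain ⟨w, hw, hwq⟩ := List.any_eq_true.mp q
  simp only [Bool.and_eq_true, Bool.not_eq_true', ← Bool.not_eq_true, adjb_iff (f2_spec hw).1,
    hue, hve] at hwq
  set z := ptF w with hz
  have hzC : mem z ∈ fixOf sab := mem_fixed.mpr ((isF_iff perm_sab z).mp (f2_spec hw).2.1)
  let m : ↥(fixOf sab) := ⟨mem z, hzC⟩
  have hc : m * n * m⁻¹ * n⁻¹ ∈ Cfsg.pCore 2 ↥(fixOf sab) :=
    mul_mem (Subgroup.Normal.conj_mem inferInstance _ hn m) (inv_mem hn)
  have h2 := core_adj hc hy2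
  have e : ρ (m * n * m⁻¹ * n⁻¹ : ↥(fixOf sab)).1 y = ρ (mem z) y := by
    show ρ (mem z * n.1 * (mem z)⁻¹ * n.1⁻¹) y = _
    have : ρ n.1⁻¹ y = x := by rw [hy, ← Equiv.Perm.mul_apply, ← map_mul, inv_mul_cancel, map_one]; rfl
    rw [map_mul, map_mul, map_mul, Equiv.Perm.mul_apply, Equiv.Perm.mul_apply, Equiv.Perm.mul_apply,
      this, mem_inv, hwq.1, ← hy]
  rw [e] at h2
  -- the third point does not commute
  have hb := braid hwq.2
  rw [hb] at h2
  have h3 : ρ (mem y) z = z := (ρ (mem y)).injective h2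
  exact hwq.2 (adj_symm h3)

theorem core_eq :
    (Cfsg.pCore 2 ↥(fixOf sab)).map (fixOf sab).subtype = fixTwo := by
  refine le_antisymm ?_ fun g hg => ?_
  · rintro _ ⟨n, hn, rfl⟩
    exact core_le hn
  · refine ⟨⟨g, hg.1⟩, ?_, rfl⟩
    have hk : IsPGroup 2 homTwo.ker := by
      rintro ⟨⟨k, hkC⟩, hk⟩
      refine ⟨1, Subtype.ext (Subtype.ext ?_)⟩
      have := fixTwo_sq ((ker_iff hkC).mp hk)
      simpa [pow_two] using this
    exact Cores.le_pCore hk ((ker_iff hg.1).mpr hg)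

theorem orth_iso : Cfsg.IsElementaryAbelian 2 fixTwo ∧ Nat.card fixTwo = 64 ∧
    ∃ _ : (fixTwo.subgroupOf (fixOf sab)).Normal,
      Nonempty (↥(fixOf sab) ⧸ fixTwo.subgroupOf (fixOf sab) ≃*
        Cfsg.isometryGroup (ZMod 2) (Cfsg.quadFormMinus 2 (ZMod 2) 1 1)) := by
  refine ⟨⟨⟨⟨fun a b => Subtype.ext (fixTwo_comm a.2 b.2)⟩⟩, fun a ha => by
    rw [pow_two]; exact fixTwo_sq ha⟩, card_fixTwo, ?_⟩
  have e : fixTwo.subgroupOf (fixOf sab) = homTwo.ker := by
    ext ⟨g, hg⟩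
    rw [Subgroup.mem_subgroupOf, MonoidHom.mem_ker, ker_iff hg]
  have hnorm : (fixTwo.subgroupOf (fixOf sab)).Normal := e ▸ homTwo.normal_ker
  exact ⟨hnorm, ⟨(QuotientGroup.quotientMulEquivOfEq e).trans
    (QuotientGroup.quotientKerEquivOfSurjective homTwo homTwo_surj)⟩⟩

end Cfsg.Agent.H39.Fi22Invol
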