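import Cfsg.Agent.H39.Fi22Invol.SympChecks

/-!
The fixed subgroup of the second involution is a group of order two times the symplectic group in
dimension six over two elements.
-/

set_option autoImplicit false
set_option maxRecDepth 100000

namespace Cfsg.Agent.H39.Fi22Invol

open Cfsg.Agent.H45 Cfsg.Agent.H46.Fi22Out
open Matrix

/-- matrices -/
abbrev M6 : Type := Matrix (Fin 3 ⊕ Fin 3) (Fin 3 ⊕ Fin 3) (ZMod 2)

/-- the symplectic group -/
abbrev Sp6 : Submonoid M6 := Matrix.symplecticGroup (Fin 3) (ZMod 2)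

/-- the fixed subgroup -/
noncomputable def cOne : Subgroup G := fixOf sigma ⊓ Subgroup.centralizer ({ma} : Set G)

theorem injS (n m : ℕ) (hn : n < 64) (hm : m < 64) (h : vec ixS n = vec ixS m) : n = m :=
  of_decide_eq_true (List.all_eq_true.mp (injS_aux ⟨n, hn⟩) m (List.mem_range.mpr hm)) h

theorem form_eq (n m : ℕ) (hn : n < 64) (hm : m < 64) :
    vec ixS n ⬝ᵥ (Matrix.J (Fin 3) (ZMod 2) *ᵥ vec ixS m) = bif bs n m then 1 else 0 :=
  of_decide_eq_true (List.all_eq_true.mp (bs_form ⟨n, hn⟩) m (List.mem_range.mpr hm))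

theorem app_linS (c : List ℕ) (n : ℕ) (_hn : n < 64) :
    vec ixS (app c n) = Mx ixS c *ᵥ vec ixS n ∧ ((∀ k, c.getD k 0 < 64) → app c n < 64) := by
  refine ⟨funext fun i => ?_, fun h => ?_⟩
  · simp only [vec, app, bitZ_xor, bitZ_scale, Matrix.mulVec, dotProduct, Mx, Fintype.sum_sum_type,
      Fin.sum_univ_three, ixS]
    simp only [Fin.val_zero, Fin.val_one, Fin.val_two, bitZ]
    ring
  · have : ∀ (b : Bool) k, (bif b then c.getD k 0 else 0) < 2 ^ 6 := fun b k => by
      cases b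
      · exact Nat.two_pow_pos 6
      · exact h k
    exact Nat.xor_lt_two_pow (Nat.xor_lt_two_pow (Nat.xor_lt_two_pow (Nat.xor_lt_two_pow
      (Nat.xor_lt_two_pow (this _ 0) (this _ 1)) (this _ 2)) (this _ 3)) (this _ 4)) (this _ 5)

theorem sp_inj {M : M6} (hM : M ∈ Sp6) : Function.Injective fun v => M *ᵥ v :=
  Matrix.mulVec_injective_iff_isUnit.mpr <| (Matrix.isUnit_iff_isUnit_det M).mpr
    (SymplecticGroup.symplectic_det hM)

theorem sp_form {M : M6} (hM : M ∈ Sp6) (u v : Fin 3 ⊕ Fin 3 → ZMod 2) :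
    (M *ᵥ u) ⬝ᵥ (Matrix.J (Fin 3) (ZMod 2) *ᵥ (M *ᵥ v)) = u ⬝ᵥ (Matrix.J (Fin 3) (ZMod 2) *ᵥ v) := by
  have h := SymplecticGroup.mem_iff.mp (SymplecticGroup.transpose_mem hM)
  rw [Matrix.transpose_transpose] at h
  rw [Matrix.mulVec_mulVec, Matrix.dotProduct_mulVec, Matrix.vecMul_mulVec, ← Matrix.mul_assoc, h,
    ← Matrix.dotProduct_mulVec]

theorem bs_pres {M : M6} (hM : M ∈ Sp6) (n m w z : ℕ) (hn : n < 64) (hm : m < 64) (hw : w < 64)
    (hz : z < 64) (e1 : vec ixS w = M *ᵥ vec ixS n) (e2 : vec ixS z = M *ᵥ vec ixS m) :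
    bs w z = bs n m := by
  have h := sp_form hM (vec ixS n) (vec ixS m)
  rw [← e1, ← e2, form_eq w z hw hz, form_eq n m hn hm] at h
  cases h1 : bs w z <;> cases h2 : bs n m <;> rw [h1, h2] at h <;> simp_all

/-- one of the 63 -/
def In1 (x : Pt) : Prop := inF1 x = true

theorem in1_iff (x : Pt) : In1 x ↔ perm sa x = x ∧ x ≠ ptF Data.ua := by
  simp only [In1, inF1, Bool.and_eq_true, isF_iff perm_sa, Bool.not_eq_true', ← Bool.not_eq_true,
    Nat.beq_eq, ← ptF_val ua_lt, Fin.val_inj, ne_eq]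

theorem cOne_fix_a {h : G} (hh : h ∈ cOne) : ρ h (ptF Data.ua) = ptF Data.ua :=
  (comm_iff _ _).mp (Subgroup.mem_centralizer_singleton_iff.mp hh.2)

theorem cOne_in {h : G} (hh : h ∈ cOne) {x : Pt} (hx : In1 x) : In1 (ρ h x) := by
  obtain ⟨hs, hne⟩ := (in1_iff x).mp hx
  refine (in1_iff _).mpr ⟨?_, fun e => hne ((ρ h).injective (e.trans (cOne_fix_a hh).symm))⟩
  rw [perm_fix ((sa_fix_iff h).mpr hh), hs]

/-- the matrix and the exchange of classes of an element -/
def P1 (g : G) (M : M6) (z : Bool) : Prop :=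
  M ∈ Sp6 ∧ (∀ x : Pt, In1 x → vec ixS (v1 (ρ g x)) = M *ᵥ vec ixS (v1 x)) ∧
    ∀ x : Pt, clsN x = 2 ∨ clsN x = 3 → clsN (ρ g x) = swz z (clsN x)

theorem P1_one : P1 1 1 false :=
  ⟨one_mem _, fun x _ => by rw [map_one, Matrix.one_mulVec]; rfl, fun x _ => by rw [map_one]; rfl⟩

theorem P1_mul {g h : G} {M N : M6} {z w : Bool} (hh : h ∈ cOne) (p : P1 g M z) (q : P1 h N w) :
    P1 (g * h) (M * N) (xor z w) := by
  refine ⟨mul_mem p.1 q.1, fun x hx => ?_, fun x hx => ?_⟩
  · rw [map_mul, Equiv.Perm.mul_apply, p.2.1 _ (cOne_in hh hx), q.2.1 x hx, Matrix.mulVec_mulVec]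
  · rw [map_mul, Equiv.Perm.mul_apply]
    have h2 := q.2.2 x hx
    rw [p.2.2 _ (by rcases hx with e | e <;> cases w <;> simp [h2, e, swz]), h2]
    rcases hx with e | e <;> cases z <;> cases w <;> simp [e, swz]

theorem P1_gen {t : List (List ℕ) × List ℕ × Bool} (ht : t ∈ Data.genOne) :
    (evalW e (pW t.1))⁻¹ ∈ cOne ∧ P1 (evalW e (pW t.1))⁻¹ (Mx ixS t.2.1) t.2.2 := by
  have hg := oneK_le (Subgroup.subset_closure
    ⟨t.1, List.mem_map_of_mem (f := fun t => t.1) ht, rfl⟩ : evalW e (pW t.1) ∈ oneK)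
  refine ⟨inv_mem hg, ?_⟩
  have hlt : ltW (pW t.1) = true := ltW_pW (List.all_eq_true.mpr fun u hu => by
    have h := List.all_eq_true.mp gensA_facts t.1 (List.mem_map_of_mem (f := fun t => t.1) ht)
    simp only [Bool.and_eq_true] at h
    have := List.all_eq_true.mp h.1 u hu
    simp only [Bool.and_eq_true] at this
    exact this.1)
  have hm := List.all_eq_true.mp genOne_mat t ht
  simp only [Bool.and_eq_true, decide_eq_true_eq] at hm
  have ho := List.all_eq_true.mp genOne_ok t ht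
  refine ⟨SymplecticGroup.mem_iff.mpr hm.1.1, fun x hx => ?_, fun x hx => ?_⟩
  · have := allLt_sound ho x x.isLt
    simp only [Bool.and_eq_true] at this
    have h1 := this.1
    rw [show inF1 x = true from hx, cond_true, Nat.beq_eq, ← wk_rep hlt] at h1
    rw [← h1]
    have hv : v1 x < 64 := by
      obtain ⟨u, hu, rfl⟩ := f1_mem ((in1_iff x).mp hx).1
      have hf := v1_facts
      simp only [Bool.and_eq_true] at hf
      have := List.all_eq_true.mp hf.2 u hu
      rw [← ptF_val (f1_spec hu).1, show inF1 (ptF u : Pt) = true from hx] at this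
      simp only [Bool.not_true, Bool.false_or, Bool.and_eq_true, Nat.blt_eq] at this
      exact this.1.1
    exact (app_linS _ _ hv).1
  · have := allLt_sound ho x x.isLt
    simp only [Bool.and_eq_true] at this
    have h2 := this.2
    rw [show (Nat.beq (clsN x) 2 || Nat.beq (clsN x) 3) = true by
      simpa [Bool.or_eq_true, Nat.beq_eq] using hx, cond_true, Nat.beq_eq, ← wk_rep hlt] at h2
    exact h2

theorem mem_cases {g : G} (hg : g ∈ cOne) : ∃ M z, P1 g M z := by
  classical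
  haveI := finite_G
  let T : Set G := {g | ∃ t ∈ Data.genOne, (evalW e (pW t.1))⁻¹ = g}
  have hle : cOne ≤ Subgroup.closure T := by
    rw [show cOne = oneK from csa_eq]
    refine (Subgroup.closure_le _).mpr ?_
    rintro _ ⟨us, hus, rfl⟩
    obtain ⟨t, ht, rfl⟩ := List.mem_map.mp hus
    have : (evalW e (pW t.1))⁻¹ ∈ Subgroup.closure T := Subgroup.subset_closure ⟨t, ht, rfl⟩
    simpa using inv_mem this
  have hmem : g ∈ Submonoid.closure T := by
    rw [← Subgroup.closure_toSubmonoid_of_finite]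
    exact hle hg
  suffices h : g ∈ cOne ∧ ∃ M z, P1 g M z from h.2
  clear hg
  induction hmem using Submonoid.closure_induction with
  | mem x hx =>
    obtain ⟨t, ht, rfl⟩ := hx
    exact ⟨(P1_gen ht).1, _, _, (P1_gen ht).2⟩
  | one => exact ⟨one_mem _, _, _, P1_one⟩
  | mul x y _ _ hx hy =>
    obtain ⟨hx1, M, z, hM⟩ := hx
    obtain ⟨hy1, N, w, hN⟩ := hy
    exact ⟨mul_mem hx1 hy1, _, _, P1_mul hy1 hM hN⟩

theorem exists_vec (n : ℕ) (hn : n < 64) (h0 : n ≠ 0) : ∃ x : Pt, In1 x ∧ v1 x = n := by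
  have hf := v1_facts
  simp only [Bool.and_eq_true] at hf
  have hp : (!Nat.beq n 0) = true := by
    rw [Bool.not_eq_true', ← Bool.not_eq_true, Nat.beq_eq]; exact h0
  obtain ⟨u, hu, he⟩ := List.mem_map.mp (coverB_mem hf.1 hn hp)
  obtain ⟨huf, hin⟩ := List.mem_filter.mp hu
  rw [← ptF_val (f1_spec huf).1] at hin he
  exact ⟨ptF u, hin, he⟩

theorem P1_unique {g : G} {M N : M6} {z w : Bool} (p : P1 g M z) (q : P1 g N w) : M = N ∧ z = w := by
  constructor
  · refine Matrix.ext_of_mulVec_single fun i => ?_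
    obtain ⟨n, hn⟩ := surjS (Pi.single i 1)
    by_cases h0 : (n : ℕ) = 0
    · rw [← hn, h0, vec_zero, Matrix.mulVec_zero, Matrix.mulVec_zero]
    · obtain ⟨x, hx, hv⟩ := exists_vec n n.isLt h0
      rw [← hn, ← hv, ← p.2.1 x hx, ← q.2.1 x hx]
  · obtain ⟨x, hx⟩ : ∃ x : Pt, clsN x = 2 := by
      by_contra hno
      push_neg at hno
      have key : ∀ m, m ≤ 3510 → allLt (fun x => !Nat.beq (clsN x) 2) m = true := by
        intro m
        induction m with
        | zero => intro _; rfl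
        | succ m ih =>
          intro hm
          simp only [allLt, ih (by omega), Bool.and_true, Bool.not_eq_true', ← Bool.not_eq_true,
            Nat.beq_eq]
          exact hno ⟨m, by omega⟩
      exact Bool.false_ne_true (cls_two.symm.trans (key 3510 le_rfl))
    have h1 := p.2.2 x (Or.inl hx)
    rw [q.2.2 x (Or.inl hx), hx] at h1
    cases z <;> cases w <;> simp [swz] at h1 ⊢

theorem P1_kernel {g : G} (hg : g ∈ cOne) {z : Bool} (p : P1 g 1 z) : g = 1 ∨ g = ma := by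
  refine kerA hg.1 fun x hx => ?_
  by_cases hxa : x = ptF Data.ua
  · rw [hxa]; exact cOne_fix_a hg
  have hin : In1 x := (in1_iff x).mpr ⟨hx, hxa⟩
  have hgx := cOne_in hg hin
  obtain ⟨u, hu, rfl⟩ := f1_mem hx
  obtain ⟨v, hv, hve⟩ := f1_mem ((in1_iff _).mp hgx).1
  have hvec := p.2.1 _ hin
  rw [Matrix.one_mulVec, ← hve] at hvec
  rw [← hve] at hgx ⊢
  have hf := v1_facts
  simp only [Bool.and_eq_true] at hf
  have hu' := List.all_eq_true.mp hf.2 u hu
  have hv' := List.all_eq_true.mp hf.2 v hv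
  simp only [← ptF_val (f1_spec hu).1, ← ptF_val (f1_spec hv).1] at hu' hv'
  rw [show inF1 (ptF u : Pt) = true from hin] at hu'
  rw [show inF1 (ptF v : Pt) = true from hgx] at hv'
  simp only [Bool.not_true, Bool.false_or, Bool.and_eq_true, Nat.blt_eq] at hu' hv'
  have hpair := List.all_eq_true.mp hu'.2 v hv
  simp only [← ptF_val (f1_spec hv).1, show inF1 (ptF v : Pt) = true from hgx, Bool.not_true,
    Bool.false_or, Bool.and_eq_true, Bool.or_eq_true, Bool.not_eq_true', ← Bool.not_eq_true,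
    Nat.beq_eq] at hpair
  have e := injS _ _ hv'.1.1 hu'.1.1 hvec
  rcases hpair.1 with q | q
  · exact absurd e.symm q
  · exact Fin.ext q.symm

theorem ma_mem : ma ∈ cOne :=
  ⟨sigma_ma, Subgroup.mem_centralizer_singleton_iff.mpr rfl⟩

theorem P1_ma : P1 ma 1 true := by
  obtain ⟨t, ht, h⟩ := List.any_eq_true.mp genOne_a
  simp only [Bool.and_eq_true, decide_eq_true_eq] at h
  obtain ⟨-, p⟩ := P1_gen ht
  rw [h.1, h.2, evalW_pW, List.map_singleton, List.prod_singleton, mem_inv] at p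
  have e : Mx ixS t.2.1 = 1 := by
    refine Matrix.ext_of_mulVec_single fun i => ?_
    obtain ⟨n, hn⟩ := surjS (Pi.single i 1)
    rw [Matrix.one_mulVec, ← hn]
    by_cases h0 : (n : ℕ) = 0
    · rw [h0, vec_zero, Matrix.mulVec_zero]
    · obtain ⟨x, hx, hv⟩ := exists_vec n n.isLt h0
      obtain ⟨u, hu, hue⟩ := f1_mem ((in1_iff x).mp hx).1
      rw [← hv, ← p.2.1 x hx, ← hue, show ρ (mem (ptF Data.ua)) (ptF u) = ptF u from (f1_spec hu).2.2.2]
  rw [e] at p
  exact p

/-- the submonoid of matrices arising -/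
noncomputable def imgOne : Submonoid M6 where
  carrier := {M | ∃ g ∈ cOne, ∃ z, P1 g M z}
  one_mem' := ⟨1, one_mem _, _, P1_one⟩
  mul_mem' := by
    rintro M N ⟨g, hg, z, p⟩ ⟨h, hh, w, q⟩
    exact ⟨g * h, mul_mem hg hh, _, P1_mul hh p q⟩

theorem imgOne_le : imgOne ≤ Sp6 := by rintro M ⟨g, _, z, p⟩; exact p.1

theorem surj_one (M : M6) (hM : M ∈ Sp6) : M ∈ imgOne := by
  have hinj : ∀ K ∈ imgOne, Function.Injective fun v => K *ᵥ v := fun K hK => sp_inj (imgOne_le hK)
  have hgen : ∀ c ∈ Data.genOne.map (fun t => t.2.1), Mx ixS c ∈ imgOne ∧ ∀ k, c.getD k 0 < 64 := by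
    intro c hc
    obtain ⟨t, ht, rfl⟩ := List.mem_map.mp hc
    refine ⟨⟨_, (P1_gen ht).1, _, (P1_gen ht).2⟩, fun k => ?_⟩
    have hm := List.all_eq_true.mp genOne_mat t ht
    simp only [Bool.and_eq_true, List.all_eq_true, Nat.blt_eq, Nat.beq_eq] at hm
    by_cases hk : k < 6
    · exact hm.1.2 k (List.mem_range.mpr hk)
    · rw [List.getD_eq_default _ _ (by omega)]; norm_num
  have hok : ∀ M ∈ Sp6, ∀ n w, n < 64 → w < 64 → vec ixS w = M *ᵥ vec ixS n →
      (!Nat.beq n 0) = true → (!Nat.beq w 0) = true := by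
    intro M hM n w hn hw he hn0
    rw [Bool.not_eq_true', ← Bool.not_eq_true, Nat.beq_eq] at hn0 ⊢
    intro hw0
    refine hn0 (injS n 0 hn (by norm_num) (sp_inj hM ?_))
    show M *ᵥ vec ixS n = M *ᵥ vec ixS 0
    rw [← he, hw0, vec_zero, Matrix.mulVec_zero]
  obtain ⟨K, hK, hKM⟩ := vchain_sound (ix := ixS) (S := imgOne) (good := (· ∈ Sp6)) app_linS surjS
    injS hgen (fun K hK M hM => mul_mem (imgOne_le hK) hM) (fun M hM => sp_inj hM) hinj hok
    (fun M hM n m w z hn hm hw hz e1 e2 => bs_pres hM n m w z hn hm hw hz e1 e2)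
    Data.vchOne [] vchOne_ok (by simp) M hM (by simp)
  obtain ⟨K', hK', e⟩ := exists_left_inverse hinj hK
  have : K' = M := by rw [← one_mul M, ← e, mul_assoc, hKM, mul_one]
  exact this ▸ hK'

theorem exists_transvection (n : ℕ) (hn : n < 64) (h0 : n ≠ 0) :
    ∃ M ∈ Sp6, ∀ m < 64, M *ᵥ vec ixS m = vec ixS (bif bs n m then n ^^^ m else m) := by
  obtain ⟨x, hx, hv⟩ := exists_vec n hn h0
  obtain ⟨u, hu, rfl⟩ := f1_mem ((in1_iff x).mp hx).1
  obtain ⟨hlt, -, hs, hfa⟩ := f1_spec hu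
  have hmem : mem (ptF u) ∈ cOne := ⟨mem_fixed.mpr hs, Subgroup.mem_centralizer_singleton_iff.mpr
    ((comm_iff ma (ptF u)).mpr hfa).symm.eq⟩
  obtain ⟨M, z, p⟩ := mem_cases hmem
  refine ⟨M, p.1, fun m hm => ?_⟩
  by_cases hm0 : m = 0
  · subst hm0
    have hb : bs n 0 = false := by
      simp [bs]
    rw [hb, cond_false, vec_zero, Matrix.mulVec_zero]
  · obtain ⟨y, hy, hyv⟩ := exists_vec m hm hm0
    obtain ⟨v, hvm, rfl⟩ := f1_mem ((in1_iff y).mp hy).1
    rw [← hyv, ← p.2.1 _ hy, wk_conjW hlt]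
    have hvl := (f1_spec hvm).1
    have hf := v1_facts
    simp only [Bool.and_eq_true] at hf
    have hu' := List.all_eq_true.mp hf.2 u hu
    simp only [← ptF_val hlt, show inF1 (ptF u : Pt) = true from hx, Bool.not_true, Bool.false_or,
      Bool.and_eq_true] at hu'
    have hp := List.all_eq_true.mp hu'.2 v hvm
    simp only [← ptF_val hvl, show inF1 (ptF v : Pt) = true from hy, Bool.not_true, Bool.false_or,
      Bool.and_eq_true, Nat.beq_eq] at hp
    rw [hp.2, hv]

theorem center_bot : Subgroup.center (Matrix.symplecticGroup (Fin 3) (ZMod 2)) = ⊥ := by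
  rw [eq_bot_iff]
  rintro ⟨M, hM⟩ hc
  rw [Subgroup.mem_bot]
  refine Subtype.ext (Matrix.ext_of_mulVec_single fun i => ?_)
  obtain ⟨n, hn⟩ := surjS (Pi.single i 1)
  show M *ᵥ _ = (1 : M6) *ᵥ _
  rw [← hn, Matrix.one_mulVec]
  by_cases h0 : (n : ℕ) = 0
  · rw [h0, vec_zero, Matrix.mulVec_zero]
  obtain ⟨T, hT, hTv⟩ := exists_transvection n n.isLt h0
  have hcomm : T * M = M * T :=
    congrArg Subtype.val (Subgroup.mem_center_iff.mp hc ⟨T, hT⟩)
  obtain ⟨m, hm⟩ := bs_pairs n h0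
  obtain ⟨p, hp⟩ := surjS (M *ᵥ vec ixS m)
  obtain ⟨q, hq⟩ := surjS (M *ᵥ vec ixS n)
  have h1 : T *ᵥ (M *ᵥ vec ixS m) = M *ᵥ (T *ᵥ vec ixS m) := by
    rw [Matrix.mulVec_mulVec, Matrix.mulVec_mulVec, hcomm]
  rw [hTv m m.isLt, hm, cond_true, vec_xor, Matrix.mulVec_add, ← hp, hTv p p.isLt] at h1
  cases hb : bs n p
  · rw [hb, cond_false] at h1
    replace h1 : M *ᵥ vec ixS n = 0 := (add_right_cancel ((zero_add _).trans h1)).symm
    refine absurd (injS n 0 n.isLt (by norm_num) (sp_inj hM ?_)) h0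
    show M *ᵥ vec ixS n = M *ᵥ vec ixS 0
    rw [h1, vec_zero, Matrix.mulVec_zero]
  · rw [hb, cond_true, vec_xor] at h1
    exact (add_right_cancel h1).symm

/-- the matrix and the exchange of classes -/
noncomputable def homOne :
    ↥cOne →* Multiplicative (ZMod 2) × Matrix.symplecticGroup (Fin 3) (ZMod 2) where
  toFun g := (Multiplicative.ofAdd (bif (mem_cases g.2).choose_spec.choose then 1 else 0),
    ⟨(mem_cases g.2).choose, (mem_cases g.2).choose_spec.choose_spec.1⟩)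
  map_one' := by
    obtain ⟨e1, e2⟩ := P1_unique (mem_cases (one_mem cOne)).choose_spec.choose_spec P1_one
    refine Prod.ext ?_ (Subtype.ext e1)
    show Multiplicative.ofAdd (bif (mem_cases (one_mem cOne)).choose_spec.choose then (1 : ZMod 2) else 0) = 1
    rw [e2]; rfl
  map_mul' g h := by
    obtain ⟨e1, e2⟩ := P1_unique (mem_cases (g * h).2).choose_spec.choose_spec
      (P1_mul h.2 (mem_cases g.2).choose_spec.choose_spec (mem_cases h.2).choose_spec.choose_spec)
    refine Prod.ext ?_ (Subtype.ext e1)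
    show Multiplicative.ofAdd (bif (mem_cases (g * h).2).choose_spec.choose then (1 : ZMod 2) else 0) = _
    rw [e2]
    show _ = Multiplicative.ofAdd (bif (mem_cases g.2).choose_spec.choose then (1 : ZMod 2) else 0) *
      Multiplicative.ofAdd (bif (mem_cases h.2).choose_spec.choose then (1 : ZMod 2) else 0)
    rw [← ofAdd_add]
    cases (mem_cases g.2).choose_spec.choose <;> cases (mem_cases h.2).choose_spec.choose <;> rfl

theorem homOne_spec {g : ↥cOne} {M : M6} {z : Bool} (p : P1 g.1 M z) :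
    (homOne g).1 = Multiplicative.ofAdd (bif z then 1 else 0) ∧ (homOne g).2.1 = M := by
  obtain ⟨e1, e2⟩ := P1_unique (mem_cases g.2).choose_spec.choose_spec p
  exact ⟨congrArg (fun z => Multiplicative.ofAdd (bif z then (1 : ZMod 2) else 0)) e2, e1⟩

theorem homOne_bij : Function.Bijective homOne := by
  constructor
  · rw [injective_iff_map_eq_one]
    intro g hg
    obtain ⟨M, z, p⟩ := mem_cases g.2
    obtain ⟨e1, e2⟩ := homOne_spec p
    rw [hg] at e1 e2
    have hM : M = 1 := e2.symm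
    subst hM
    rcases P1_kernel g.2 p with q | q
    · exact Subtype.ext q
    · exfalso
      rw [q] at p
      obtain ⟨-, e⟩ := P1_unique p P1_ma
      subst e
      have : (1 : Multiplicative (ZMod 2)) = Multiplicative.ofAdd (1 : ZMod 2) := e1
      exact absurd this (by decide)
  · rintro ⟨c, ⟨M, hM⟩⟩
    obtain ⟨g, hg, z, p⟩ := surj_one M hM
    have key : ∀ c : Multiplicative (ZMod 2), c = Multiplicative.ofAdd (bif z then (1 : ZMod 2) else 0) ∨
        c = Multiplicative.ofAdd (bif xor true z then (1 : ZMod 2) else 0) := by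
      cases z <;> decide
    rcases key c with q | q
    · refine ⟨⟨g, hg⟩, ?_⟩
      obtain ⟨e1, e2⟩ := homOne_spec (g := ⟨g, hg⟩) p
      exact Prod.ext (e1.trans q.symm) (Subtype.ext e2)
    · have p2 := P1_mul hg P1_ma p
      rw [one_mul] at p2
      refine ⟨⟨ma * g, mul_mem ma_mem hg⟩, ?_⟩
      obtain ⟨e1, e2⟩ := homOne_spec (g := ⟨ma * g, mul_mem ma_mem hg⟩) p2
      exact Prod.ext (e1.trans q.symm) (Subtype.ext e2)

theorem one_iso : Nonempty (↥(fixOf sigma ⊓ Subgroup.centralizer ({ma} : Set G)) ≃*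
    Multiplicative (ZMod 2) × Cfsg.PSp 3 (ZMod 2)) :=
  ⟨(MulEquiv.ofBijective homOne homOne_bij).trans ((MulEquiv.refl _).prodCongr
    ((QuotientGroup.quotientBot).symm.trans (QuotientGroup.quotientMulEquivOfEq center_bot.symm)))⟩

end Cfsg.Agent.H39.Fi22Invol
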