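import Cfsg.Agent.H39.Fi22Invol.Classes
import Cfsg.Agent.H39.Fi22Invol.Symp
import Cfsg.Agent.H39.Fi22Invol.Orth
import Cfsg.Agent.H3.Fischer.O8.Group
import Cfsg.Agent.H70.FiTwentyTwo.Main

/-!
The outer involutions of a group of type M(22) and their centralisers.
-/

set_option autoImplicit false
set_option maxRecDepth 100000

namespace Cfsg.Agent.H39.Fi22Invol

open Cfsg.Agent.H45 Cfsg.Agent.H46.Fi22Out

section transport

variable {G' : Type*} [Group G'] (φ : G ≃* G')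

theorem mem_mapE {H : Subgroup G} {y : G'} : y ∈ H.map (φ : G →* G') ↔ φ.symm y ∈ H := by
  constructor
  · rintro ⟨x, hx, rfl⟩
    show φ.symm (φ x) ∈ H
    rwa [φ.symm_apply_apply]
  · exact fun h => ⟨φ.symm y, h, φ.apply_symm_apply y⟩

theorem congr_apply' (α : MulAut G) (y : G') : MulAut.congr φ α y = φ (α (φ.symm y)) := rfl

theorem congr_apply (α : MulAut G) (x : G) : MulAut.congr φ α (φ x) = φ (α x) := by
  rw [congr_apply', φ.symm_apply_apply]

theorem congr_conj (g : G) : MulAut.congr φ (MulAut.conj g) = MulAut.conj (φ g) := by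
  refine MulEquiv.ext fun y => ?_
  obtain ⟨x, rfl⟩ := φ.surjective y
  simp [congr_apply]

theorem congr_inner (α : MulAut G) :
    MulAut.congr φ α ∈ (MulAut.conj : G' →* MulAut G').range ↔
      α ∈ (MulAut.conj : G →* MulAut G).range := by
  constructor
  · rintro ⟨y, hy⟩
    refine ⟨φ.symm y, (MulAut.congr φ).injective ?_⟩
    rw [congr_conj, φ.apply_symm_apply, hy]
  · rintro ⟨x, rfl⟩
    exact ⟨φ x, (congr_conj φ x).symm⟩

theorem congr_isConj {α β : MulAut G} : IsConj (MulAut.congr φ α) (MulAut.congr φ β) ↔ IsConj α β := by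
  refine ⟨fun h => ?_, fun h => (MulAut.congr φ).toMonoidHom.map_isConj h⟩
  have h' := (MulAut.congr φ).symm.toMonoidHom.map_isConj h
  rwa [MulEquiv.coe_toMonoidHom, MulEquiv.symm_apply_apply, MulEquiv.symm_apply_apply] at h'

theorem congr_fix (α : MulAut G) (y : G') :
    MulAut.congr φ α y = y ↔ y ∈ (fixOf α).map (φ : G →* G') := by
  rw [mem_mapE φ]
  show φ (α (φ.symm y)) = y ↔ α (φ.symm y) = φ.symm y
  constructor
  · intro h
    apply φ.injective
    rw [h, φ.apply_symm_apply]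
  · intro h
    rw [h, φ.apply_symm_apply]

end transport

theorem pCore_map {G' : Type*} [Group G'] (φ : G ≃* G') (H : Subgroup G) :
    (Cfsg.pCore 2 ↥(H.map (φ : G →* G'))).map (H.map (φ : G →* G')).subtype =
      ((Cfsg.pCore 2 ↥H).map H.subtype).map (φ : G →* G') := by
  erw [← Cores.pCore_map_mulEquiv (φ.subgroupMap H)]
  rw [Subgroup.map_map, Subgroup.map_map]
  rfl

/-- the quotient transported along an isomorphism -/
theorem quot_map {G' : Type*} [Group G'] (φ : G ≃* G') (C O : Subgroup G) [hn : (O.subgroupOf C).Normal] :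
    ∃ _ : ((O.map (φ : G →* G')).subgroupOf (C.map (φ : G →* G'))).Normal,
      Nonempty (↥(C.map (φ : G →* G')) ⧸ (O.map (φ : G →* G')).subgroupOf (C.map (φ : G →* G')) ≃*
        ↥C ⧸ O.subgroupOf C) := by
  have e : (O.subgroupOf C).map (φ.subgroupMap C).toMonoidHom =
      (O.map (φ : G →* G')).subgroupOf (C.map (φ : G →* G')) := by
    ext x
    constructor
    · rintro ⟨y, hy, rfl⟩
      exact ⟨y.1, hy, rfl⟩
    · rintro ⟨y, hy, hyx⟩
      obtain ⟨z, hz⟩ := (φ.subgroupMap C).surjective x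
      refine ⟨z, ?_, hz⟩
      have : φ y = φ z.1 := hyx.trans (congrArg Subtype.val hz).symm
      show z.1 ∈ O
      exact φ.injective this ▸ hy
  haveI hn' : ((O.map (φ : G →* G')).subgroupOf (C.map (φ : G →* G'))).Normal :=
    e ▸ hn.map _ (φ.subgroupMap C).surjective
  exact ⟨hn', ⟨(QuotientGroup.congr _ _ (φ.subgroupMap C) e).symm⟩⟩

universe u

variable {G' : Type u} [Group G'] [Finite G'] {D : Set G'}

theorem cs_iso (hD : Cfsg.IsThreeTranspositionClass D) (h22 : Cfsg.IsOfTypeM22 G' D)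
    (hconj : ∀ g : G', ∀ d ∈ D, g * d * g⁻¹ ∈ D) (φ : G ≃* G') (hD0 : ∀ x, φ (mem x) ∈ D) :
    Nonempty (↥((fixOf H46.Fi22Out.sigma).map (φ : G →* G')) ≃*
      MulAut (Cfsg.Omega (ZMod 2) (Cfsg.quadFormPlus 4 (ZMod 2)))) := by
  obtain ⟨K, iK, iKF, h⟩ := H93.geo22 hD h22
  let gn : ℕ → G' := fun l => φ (e l)
  let mem' : Pt → G' := fun x => φ (mem x)
  have hev : ∀ w : List ℕ, evalW gn w = φ (evalW e w) := fun w => by
    simp only [gn, evalW, map_list_prod, List.map_map]; rfl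
  have hw : ∀ w : List ℕ, (∀ l ∈ w, l < 9) → ltW w = true := fun w h => by
    simpa [ltW, List.all_eq_true, Nat.blt_eq] using h
  have T : H3.Fischer.O8.Tbl D gn mem' := by
    refine ⟨hD0, φ.injective.comp mem_inj, fun w hwl x y hxy => ?_, fun u hu x hx => ?_,
      fun l => ?_, ?_⟩
    · have hy : ρ (evalW e w)⁻¹ x = y := Fin.ext ((wk_rep (hw w hwl) x).trans hxy)
      rw [hev]
      show (φ (evalW e w))⁻¹ * φ (mem x) * φ (evalW e w) = φ (mem y)
      rw [← hy, ← conj_mem, inv_inv, map_mul, map_mul, map_inv]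
    · have hxe : ptF u = x := Fin.ext ((ptF_val (hw u hu)).trans hx)
      rw [hev, mem_word, hxe]
    · show (φ (e l))⁻¹ = φ (e l)
      rw [← map_inv, e_inv']
    · show φ (e 7) ∈ D
      rw [e_letter (by norm_num : 7 < 9)]
      exact hD0 _
  have hbig : H3.Fischer.O8.bigI gn mem' = (fixOf H46.Fi22Out.sigma).map (φ : G →* G') := by
    rw [cs_eq, bigK, MonoidHom.map_closure, H3.Fischer.O8.bigI, Set.image_union, Set.image_singleton,
      ← Set.range_comp]
    congr 2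
    refine congrArg Set.range (funext fun i => ?_)
    show φ (mem (H3.Fischer.O8.pt (H3.Fischer.O8.ix i))) = φ (mem (ptF _))
    refine congrArg (fun x => φ (mem x)) (Fin.ext ?_)
    rw [ptF_val (refl_lt i)]
    exact (H3.Fischer.O8.pts_ok (H3.Fischer.O8.ix i)).symm
  obtain ⟨e'⟩ := H3.Fischer.O8.bigI_iso T h
  exact ⟨(MulEquiv.subgroupCongr hbig.symm).trans e'⟩

theorem main (hD : Cfsg.IsThreeTranspositionClass D) (h22 : Cfsg.IsOfTypeM22 G' D)
    (hconj : ∀ g : G', ∀ d ∈ D, g * d * g⁻¹ ∈ D) (φ : G ≃* G') (ha : φ (e 0) ∈ D) :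
    ∃ (s : MulAut G') (a b : G') (Cs : Subgroup G'), orderOf s = 2 ∧
      s ∉ (MulAut.conj : G' →* MulAut G').range ∧ (∀ g : G', g ∈ Cs ↔ s g = g) ∧
      Nonempty (↥Cs ≃* MulAut (Cfsg.Omega (ZMod 2) (Cfsg.quadFormPlus 4 (ZMod 2)))) ∧
      a ∈ D ∧ b ∈ D ∧ a ≠ b ∧ Commute a b ∧ s a = a ∧ s b = b ∧
      (∀ t : MulAut G', orderOf t = 2 → t ∉ (MulAut.conj : G' →* MulAut G').range →
        (IsConj t s ∨ IsConj t (s * MulAut.conj a) ∨ IsConj t (s * MulAut.conj (a * b)))) ∧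
      ¬ IsConj s (s * MulAut.conj a) ∧ ¬ IsConj s (s * MulAut.conj (a * b)) ∧
      ¬ IsConj (s * MulAut.conj a) (s * MulAut.conj (a * b)) ∧
      (∀ g : G', (s * MulAut.conj a) g = g ↔ g ∈ Cs ⊓ Subgroup.centralizer ({a} : Set G')) ∧
      Nonempty (↥(Cs ⊓ Subgroup.centralizer ({a} : Set G')) ≃*
        Multiplicative (ZMod 2) × Cfsg.PSp 3 (ZMod 2)) ∧
      ∃ Csab O : Subgroup G', (∀ g : G', g ∈ Csab ↔ (s * MulAut.conj (a * b)) g = g) ∧
        O = (Cfsg.pCore 2 ↥Csab).map Csab.subtype ∧ Cfsg.IsElementaryAbelian 2 O ∧ Nat.card O = 64 ∧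
        ∃ _ : (O.subgroupOf Csab).Normal, Nonempty (↥Csab ⧸ O.subgroupOf Csab ≃*
          Cfsg.isometryGroup (ZMod 2) (Cfsg.quadFormMinus 2 (ZMod 2) 1 1)) := by
  have hD0 : ∀ x, φ (mem x) ∈ D := fun x => by
    rw [mem, cj, map_mul, map_mul, map_inv]
    exact hconj _ _ ha
  have esa : MulAut.congr φ sa = MulAut.congr φ H46.Fi22Out.sigma * MulAut.conj (φ ma) := by
    rw [sa, map_mul, congr_conj]
  have esab : MulAut.congr φ sab = MulAut.congr φ H46.Fi22Out.sigma * MulAut.conj (φ ma * φ mb) := by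
    rw [sab, map_mul, congr_conj, map_mul φ]
  have hni : H46.Fi22Out.sigma ∉ (MulAut.conj : G →* MulAut G).range := sigma_not_inner
  have hne1 : H46.Fi22Out.sigma ≠ 1 := fun h => hni ⟨1, (map_one _).trans h.symm⟩
  have hcs : (fixOf H46.Fi22Out.sigma).map (φ : G →* G') ⊓ Subgroup.centralizer ({φ ma} : Set G') =
      (fixOf H46.Fi22Out.sigma ⊓ Subgroup.centralizer ({ma} : Set G)).map (φ : G →* G') := by
    ext y
    simp only [Subgroup.mem_inf, mem_mapE φ, Subgroup.mem_centralizer_singleton_iff]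
    refine and_congr Iff.rfl ⟨fun h => ?_, fun h => ?_⟩
    · apply φ.injective; simpa [map_mul] using h
    · simpa [map_mul] using congrArg φ h
  refine ⟨MulAut.congr φ H46.Fi22Out.sigma, φ ma, φ mb, (fixOf H46.Fi22Out.sigma).map (φ : G →* G'), ?_,
    mt (congr_inner φ H46.Fi22Out.sigma).mp hni, fun g => (congr_fix φ H46.Fi22Out.sigma g).symm, cs_iso hD h22 hconj φ hD0,
    hD0 _, hD0 _, φ.injective.ne ma_ne_mb, comm_ab.map φ, by rw [congr_apply, sigma_ma],
    by rw [congr_apply, sigma_mb], fun t ht htout => ?_, ?_⟩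
  · have := Fact.mk Nat.prime_two
    refine orderOf_eq_prime ?_ fun h => hne1 ((MulAut.congr φ).injective (h.trans (map_one _).symm))
    rw [pow_two, ← map_mul, sigma_sq, map_one]
  · obtain ⟨β, rfl⟩ := (MulAut.congr φ).surjective t
    have h2 : β * β = 1 := (MulAut.congr φ).injective (by
      rw [map_mul, map_one, ← pow_two, ← ht, pow_orderOf_eq_one])
    rw [← esa, ← esab]
    rcases outer_classes h2 (mt (congr_inner φ β).mpr htout) with h | h | h
    · exact Or.inl ((congr_isConj φ).mpr h)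
    · exact Or.inr (Or.inl ((congr_isConj φ).mpr h))
    · exact Or.inr (Or.inr ((congr_isConj φ).mpr h))
  refine ⟨?_, ?_, ?_, fun g => ?_, ?_, (fixOf sab).map (φ : G →* G'), fixTwo.map (φ : G →* G'),
    fun g => ?_, ?_, ?_, ?_, ?_⟩
  · rw [← esa]; exact mt (congr_isConj φ).mp not_conj.1
  · rw [← esab]; exact mt (congr_isConj φ).mp not_conj.2.1
  · rw [← esa, ← esab]; exact mt (congr_isConj φ).mp not_conj.2.2
  · obtain ⟨x, rfl⟩ := φ.surjective g
    rw [← esa, congr_apply, φ.injective.eq_iff, hcs, sa_fix_iff, mem_mapE φ,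
      φ.symm_apply_apply]
  · obtain ⟨e'⟩ := one_iso
    rw [hcs]
    exact ⟨(φ.subgroupMap _).symm.trans e'⟩
  · rw [← esab]; exact (congr_fix φ sab g).symm
  · rw [pCore_map, core_eq]
  · obtain ⟨hab, hsq⟩ := orth_iso.1
    refine ⟨Subgroup.map_isMulCommutative _ _, ?_⟩
    rintro _ ⟨a, ha', rfl⟩
    rw [← map_pow, hsq a ha', map_one]
  · rw [Nat.card_congr (φ.subgroupMap fixTwo).symm.toEquiv, card_fixTwo]
  · obtain ⟨hn, ⟨e1⟩⟩ := orth_iso.2.2
    obtain ⟨hn', ⟨e2⟩⟩ := quot_map φ (fixOf sab) fixTwo (hn := hn)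
    exact ⟨hn', ⟨e2.trans e1⟩⟩

end Cfsg.Agent.H39.Fi22Invol
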