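import Cfsg.Agent.H39.Fi22Invol.Vec
import Cfsg.Agent.H39.Fi22Invol.Mk
import Cfsg.Prelude.Def_Classical

/-!
Kernel checks for the 36 pairs as the non-singular vectors of an elliptic quadratic space.
-/

set_option autoImplicit false
set_option maxRecDepth 100000

namespace Cfsg.Agent.H39.Fi22Invol

open Cfsg.Agent.H45 Cfsg.Agent.H46.Fi22Out
open Matrix

/-- the bit of a coordinate -/
def ixO : (Fin 2 ⊕ Fin 2) ⊕ Fin 2 → ℕ
  | .inl (.inl i) => i.1
  | .inl (.inr i) => 2 + i.1
  | .inr j => 4 + j.1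

/-- the quadratic form on numbers -/
def qn (n : ℕ) : Bool :=
  xor (xor (n.testBit 0 && n.testBit 2) (n.testBit 1 && n.testBit 3)) (n.testBit 4 || n.testBit 5)

/-- its polar form -/
def bn (n m : ℕ) : Bool := xor (xor (qn (n ^^^ m)) (qn n)) (qn m)

/-- the quadratic form -/
abbrev Qm : ((Fin 2 ⊕ Fin 2) ⊕ Fin 2 → ZMod 2) → ZMod 2 := Cfsg.quadFormMinus 2 (ZMod 2) 1 1

theorem qn_form : ∀ n : Fin 64, Qm (vec ixO n.1) = bif qn n.1 then 1 else 0 := by decide +kernel

theorem surjO : ∀ v : (Fin 2 ⊕ Fin 2) ⊕ Fin 2 → ZMod 2, ∃ n : Fin 64, vec ixO n = v := by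
  decide +kernel

theorem injO_aux : ∀ n : Fin 64, (List.range 64).all (fun m =>
    decide (vec ixO n.1 = vec ixO m → n.1 = m)) = true := by decide +kernel

theorem qn_pairs : ∀ n : Fin 64, qn n.1 = true ∨ ∃ m : Fin 64, qn m.1 = true ∧ qn (n.1 ^^^ m.1) = true := by
  decide +kernel

theorem genTwo_ok : (Data.genTwo.all fun t =>
    allLt (fun x => bif isF sabN x then Nat.beq (app t.2 (v2 x)) (v2 (wk (pW t.1) x)) else true) 3510 &&
      allLt (fun n => qn (app t.2 n) == qn n) 64 &&
      (List.range 6).all (fun k => Nat.blt (t.2.getD k 0) 64) && Nat.beq t.2.length 6) = true := by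
  decide +kernel

theorem v2_facts : (coverB 3510 (isF sabN) (Data.f2W.map pt) &&
    (Data.f2W.all fun u => ltW u && isF sabN (pt u) && qn (v2 (pt u)) && Nat.blt (v2 (pt u)) 64 &&
      Nat.beq (((Data.f2W.map pt).filter fun y => Nat.beq (v2 y) (v2 (pt u))).length) 2) &&
    coverB 64 qn (Data.f2W.map fun u => v2 (pt u))) = true := by decide +kernel

theorem separate : (Data.f2W.all fun u => Data.f2W.all fun v =>
    Nat.beq (v2 (pt u)) (v2 (pt v)) || !adjb u (pt v) ||
      Data.f2W.any fun w => adjb w (pt u) && !adjb w (pt v)) = true := by decide +kernel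

theorem vchTwo_ok : vchainOK qn bn (Data.genTwo.map fun t => t.2) Data.vchTwo [] = true := by
  decide +kernel

theorem kZ_facts : (gensFrom (fun _ => false) Data.chKZ &&
    chainOK sabN RKB Data.chKZ Data.f2W) = true := by decide +kernel

theorem ker_distinct : allLt (fun c => Nat.beq c 0 ||
    Data.f2W.any fun u => !Nat.beq (wk (pW (wordC Data.genKer 6 c)) (pt u)) (pt u)) 64 = true := by
  decide +kernel

theorem genKer_len : Data.genKer.length = 6 := rfl

end Cfsg.Agent.H39.Fi22Invol
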