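import Cfsg.Agent.H39.Fi22Invol.Vec
import Cfsg.Prelude.Def_Classical

/-!
Kernel checks for the 63 points as the non-zero vectors of a symplectic space.
-/

set_option autoImplicit false
set_option maxRecDepth 100000

namespace Cfsg.Agent.H39.Fi22Invol

open Cfsg.Agent.H45 Cfsg.Agent.H46.Fi22Out
open Matrix

/-- the bit of a coordinate -/
def ixS : Fin 3 ⊕ Fin 3 → ℕ
  | .inl i => i.1
  | .inr i => 3 + i.1

/-- the symplectic form on numbers -/
def bs (n m : ℕ) : Bool :=
  xor (xor (xor (n.testBit 0 && m.testBit 3) (n.testBit 1 && m.testBit 4)) (n.testBit 2 && m.testBit 5))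
    (xor (xor (n.testBit 3 && m.testBit 0) (n.testBit 4 && m.testBit 1)) (n.testBit 5 && m.testBit 2))

/-- the vector of a point fixed by the second -/
noncomputable def v1 (x : ℕ) : ℕ := cget Data.vecOne x

/-- the class of a point fixed by the first -/
noncomputable def clsN (x : ℕ) : ℕ := cget Data.clsC x

/-- one of the 63 -/
noncomputable def inF1 (x : ℕ) : Bool := isF saN x && !Nat.beq x (pt Data.ua)

/-- the other class -/
def swz (z : Bool) (k : ℕ) : ℕ := bif z then 5 - k else k

theorem genOne_ok : (Data.genOne.all fun t => allLt (fun x =>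
    (bif inF1 x then Nat.beq (app t.2.1 (v1 x)) (v1 (wk (pW t.1) x)) else true) &&
      (bif Nat.beq (clsN x) 2 || Nat.beq (clsN x) 3 then
        Nat.beq (clsN (wk (pW t.1) x)) (swz t.2.2 (clsN x)) else true)) 3510) = true := by
  decide +kernel

theorem genOne_mat : (Data.genOne.all fun t =>
    decide (Mx ixS t.2.1 * Matrix.J (Fin 3) (ZMod 2) * (Mx ixS t.2.1)ᵀ = Matrix.J (Fin 3) (ZMod 2)) &&
      (List.range 6).all (fun k => Nat.blt (t.2.1.getD k 0) 64) && Nat.beq t.2.1.length 6) = true := by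
  decide +kernel

theorem genOne_a : (Data.genOne.any fun t => decide (t.1 = [Data.ua]) && t.2.2) = true := by
  decide +kernel

theorem cls_two : allLt (fun x => !Nat.beq (clsN x) 2) 3510 = false := by decide +kernel

theorem v1_facts : (coverB 64 (fun n => !Nat.beq n 0)
      ((Data.f1W.filter fun u => inF1 (pt u)).map fun u => v1 (pt u)) &&
    (Data.f1W.all fun u => !inF1 (pt u) || (Nat.blt (v1 (pt u)) 64 && !Nat.beq (v1 (pt u)) 0 &&
      Data.f1W.all fun v => !inF1 (pt v) ||
        ((!Nat.beq (v1 (pt u)) (v1 (pt v)) || Nat.beq (pt u) (pt v)) &&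
          Nat.beq (v1 (wk (conjW u) (pt v)))
            (bif bs (v1 (pt u)) (v1 (pt v)) then v1 (pt u) ^^^ v1 (pt v) else v1 (pt v)))))) = true := by
  decide +kernel

theorem vchOne_ok :
    vchainOK (fun n => !Nat.beq n 0) bs (Data.genOne.map fun t => t.2.1) Data.vchOne [] = true := by
  decide +kernel

theorem bs_pairs : ∀ n : Fin 64, n.1 ≠ 0 → ∃ m : Fin 64, bs n.1 m.1 = true := by decide +kernel

theorem surjS : ∀ v : Fin 3 ⊕ Fin 3 → ZMod 2, ∃ n : Fin 64, vec ixS n = v := by decide +kernel

theorem injS_aux : ∀ n : Fin 64, (List.range 64).all (fun m =>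
    decide (vec ixS n.1 = vec ixS m → n.1 = m)) = true := by decide +kernel

theorem bs_form : ∀ n : Fin 64, (List.range 64).all (fun m =>
    decide (vec ixS n.1 ⬝ᵥ (Matrix.J (Fin 3) (ZMod 2) *ᵥ vec ixS m) =
      bif bs n.1 m then 1 else 0)) = true := by decide +kernel

end Cfsg.Agent.H39.Fi22Invol
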