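/-!
Search trees for involutions of the base of 22.
-/

set_option autoImplicit false

namespace Cfsg.Agent.H39.Fi22Invol

/-- a search tree -/
inductive PTr where
  | inner (k : Nat)
  | outer (j k : Nat)
  | node (x : Nat) (cons : List (Nat × Nat × Nat × Nat × Nat)) (gens : List Nat) (kids : PTr)
  | kid (w : Nat) (paths : List (List Nat)) (sub next : PTr)
  | nil

end Cfsg.Agent.H39.Fi22Invol
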