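import Cfsg.Agent.H39.Fi22Invol.Cent

/-!
Vectors of six coordinates over two elements as numbers, and chains on them.
-/

set_option autoImplicit false

namespace Cfsg.Agent.H39.Fi22Invol

open Cfsg.Agent.H45 Cfsg.Agent.H46.Fi22Out
open Matrix

/-- a bit as an element of the field -/
def bitZ (n i : ℕ) : ZMod 2 := bif n.testBit i then 1 else 0

theorem bitZ_xor (n m i : ℕ) : bitZ (n ^^^ m) i = bitZ n i + bitZ m i := by
  simp only [bitZ, Nat.testBit_xor]
  cases n.testBit i <;> cases m.testBit i <;> decide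

theorem bitZ_zero (i : ℕ) : bitZ 0 i = 0 := by simp [bitZ]

theorem bitZ_scale (b : Bool) (c i : ℕ) :
    bitZ (bif b then c else 0) i = bitZ c i * (bif b then 1 else 0) := by
  cases b <;> simp [bitZ_zero]

/-- the image of a number under six columns -/
def app (c : List ℕ) (n : ℕ) : ℕ :=
  (bif n.testBit 0 then c.getD 0 0 else 0) ^^^ (bif n.testBit 1 then c.getD 1 0 else 0) ^^^
    (bif n.testBit 2 then c.getD 2 0 else 0) ^^^ (bif n.testBit 3 then c.getD 3 0 else 0) ^^^
    (bif n.testBit 4 then c.getD 4 0 else 0) ^^^ (bif n.testBit 5 then c.getD 5 0 else 0)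

/-- the image along a path -/
def apath (cs : List (List ℕ)) : List ℕ → ℕ → ℕ
  | [], x => x
  | i :: r, x => apath cs r (app (cs.getD i [1, 2, 4, 8, 16, 32]) x)

/-- the check of a chain on vectors -/
noncomputable def vchainOK (ok : ℕ → Bool) (B : ℕ → ℕ → Bool) (cs : List (List ℕ)) :
    List (ℕ × List ℕ × List (List ℕ)) → List ℕ → Bool
  | [], prev => allLt (fun n => (mask (prev.foldl (fun s p => s ++ s.map (· ^^^ p)) [0])).testBit n) 64
  | (b, idx, paths) :: r, prev =>
    Nat.blt b 64 && ok b && (prev.all fun p => !Nat.beq b p) &&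
      (idx.all fun i => Nat.blt i cs.length && prev.all fun p => Nat.beq (app (cs.getD i []) p) p) &&
      coverB 64 (fun w => ok w && prev.all fun p => (B p w == B p b) && !Nat.beq w p)
        (paths.map fun p => apath (idx.map fun i => cs.getD i []) p b) &&
      vchainOK ok B cs r (b :: prev)

variable {ι : Type} [Fintype ι] [DecidableEq ι]

/-- the vector of a number -/
def vec (ix : ι → ℕ) (n : ℕ) : ι → ZMod 2 := fun i => bitZ n (ix i)

/-- the matrix of six columns -/
def Mx (ix : ι → ℕ) (c : List ℕ) : Matrix ι ι (ZMod 2) := fun r k => bitZ (c.getD (ix k) 0) (ix r)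

theorem vec_xor (ix : ι → ℕ) (n m : ℕ) : vec ix (n ^^^ m) = vec ix n + vec ix m :=
  funext fun i => bitZ_xor n m (ix i)

theorem vec_zero (ix : ι → ℕ) : vec ix 0 = 0 := funext fun i => bitZ_zero (ix i)

theorem mask_testBit {l : List ℕ} {x : ℕ} (h : (mask l).testBit x = true) : x ∈ l :=
  mask_mem (by rw [bget_eq]; exact h)

theorem span_fix {M : Matrix ι ι (ZMod 2)} {ix : ι → ℕ} :
    ∀ (prev s : List ℕ), (∀ p ∈ prev, M *ᵥ vec ix p = vec ix p) →
      (∀ x ∈ s, M *ᵥ vec ix x = vec ix x) →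
      ∀ x ∈ prev.foldl (fun s p => s ++ s.map (· ^^^ p)) s, M *ᵥ vec ix x = vec ix x
  | [], _, _, hs => hs
  | p :: r, s, hp, hs => by
    refine span_fix r _ (fun q hq => hp q (List.mem_cons_of_mem _ hq)) fun x hx => ?_
    rcases List.mem_append.mp hx with hx | hx
    · exact hs x hx
    · obtain ⟨y, hy, rfl⟩ := List.mem_map.mp hx
      rw [vec_xor, Matrix.mulVec_add, hs y hy, hp p List.mem_cons_self]

theorem exists_apath {ix : ι → ℕ} {S : Submonoid (Matrix ι ι (ZMod 2))} {prev : List ℕ}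
    (hlin : ∀ (c : List ℕ) n, n < 64 → vec ix (app c n) = Mx ix c *ᵥ vec ix n ∧
      ((∀ k, c.getD k 0 < 64) → app c n < 64)) :
    ∀ (l : List (List ℕ)), (∀ c ∈ l, Mx ix c ∈ S ∧ (∀ k, c.getD k 0 < 64) ∧
        ∀ p ∈ prev, Mx ix c *ᵥ vec ix p = vec ix p) →
      ∀ (path : List ℕ) (b : ℕ), b < 64 → ∃ K ∈ S,
        (∀ p ∈ prev, K *ᵥ vec ix p = vec ix p) ∧
        vec ix (apath l path b) = K *ᵥ vec ix b
  | l, h, [], b, _ => ⟨1, one_mem S, fun p _ => Matrix.one_mulVec _, (Matrix.one_mulVec _).symm⟩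
  | l, h, i :: r, b, hb => by
    by_cases hi : i < l.length
    · have hc : l.getD i [1, 2, 4, 8, 16, 32] ∈ l := by
        rw [List.getD_eq_getElem _ _ hi]; exact List.getElem_mem _
      obtain ⟨hS, hlt, hfix⟩ := h _ hc
      obtain ⟨hv, hlt'⟩ := hlin (l.getD i [1, 2, 4, 8, 16, 32]) b hb
      obtain ⟨K, hK, hKp, hKe⟩ := exists_apath hlin l h r _ (hlt' hlt)
      refine ⟨K * Mx ix _, mul_mem hK hS, fun p hp => ?_, ?_⟩
      · rw [← Matrix.mulVec_mulVec, hfix p hp, hKp p hp]
      · rw [apath, hKe, hv, Matrix.mulVec_mulVec]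
    · obtain ⟨K, hK, hKp, hKe⟩ := exists_apath hlin l h r b hb
      refine ⟨K, hK, hKp, ?_⟩
      rw [apath, List.getD_eq_default _ _ (by omega)]
      rw [show app [1, 2, 4, 8, 16, 32] b = b from ?_]
      · exact hKe
      · have : ∀ n : Fin 64, app [1, 2, 4, 8, 16, 32] n = n := by decide +kernel
        exact this ⟨b, hb⟩

theorem exists_left_inverse {S : Submonoid (Matrix ι ι (ZMod 2))}
    (hinjS : ∀ K ∈ S, Function.Injective fun v => K *ᵥ v) {K : Matrix ι ι (ZMod 2)} (hK : K ∈ S) :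
    ∃ K' ∈ S, K' * K = 1 := by
  obtain ⟨i, j, hne, he⟩ := Finite.exists_ne_map_eq_of_infinite fun n : ℕ => K ^ n
  wlog hij : i < j generalizing i j
  · exact this j i hne.symm he.symm (by omega)
  refine ⟨K ^ (j - i - 1), pow_mem hK _, ?_⟩
  rw [← pow_succ, show j - i - 1 + 1 = j - i by omega]
  refine Matrix.ext_of_mulVec_single fun k => hinjS _ (pow_mem hK i) ?_
  simp only [Matrix.mulVec_mulVec, mul_one, ← pow_add, show i + (j - i) = j by omega]
  rw [← (show K ^ i = K ^ j from he)]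

/-- a chain on vectors reduces every matrix of the kind to the identity -/
theorem vchain_sound {ix : ι → ℕ} {ok : ℕ → Bool} {B : ℕ → ℕ → Bool} {cs : List (List ℕ)}
    {S : Submonoid (Matrix ι ι (ZMod 2))} {good : Matrix ι ι (ZMod 2) → Prop}
    (hlin : ∀ (c : List ℕ) n, n < 64 → vec ix (app c n) = Mx ix c *ᵥ vec ix n ∧
      ((∀ k, c.getD k 0 < 64) → app c n < 64))
    (hsurj : ∀ v : ι → ZMod 2, ∃ n : Fin 64, vec ix n = v)
    (hvinj : ∀ n m, n < 64 → m < 64 → vec ix n = vec ix m → n = m)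
    (hgen : ∀ c ∈ cs, Mx ix c ∈ S ∧ ∀ k, c.getD k 0 < 64)
    (hS : ∀ K ∈ S, ∀ M, good M → good (K * M))
    (hinj : ∀ M, good M → Function.Injective fun v => M *ᵥ v)
    (hinjS : ∀ K ∈ S, Function.Injective fun v => K *ᵥ v)
    (hok : ∀ M, good M → ∀ n w, n < 64 → w < 64 → vec ix w = M *ᵥ vec ix n → ok n = true → ok w = true)
    (hB : ∀ M, good M → ∀ n m w z, n < 64 → m < 64 → w < 64 → z < 64 → vec ix w = M *ᵥ vec ix n →
      vec ix z = M *ᵥ vec ix m → B w z = B n m) :
    ∀ (ls : List (ℕ × List ℕ × List (List ℕ))) (prev : List ℕ), vchainOK ok B cs ls prev = true →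
      (∀ p ∈ prev, p < 64) → ∀ M, good M → (∀ p ∈ prev, M *ᵥ vec ix p = vec ix p) →
      ∃ K ∈ S, K * M = 1 := by
  intro ls
  induction ls with
  | nil =>
    intro prev h _ M _ hfix
    refine ⟨1, one_mem S, ?_⟩
    rw [one_mul]
    refine Matrix.ext_of_mulVec_single fun i => ?_
    obtain ⟨n, hn⟩ := hsurj (Pi.single i 1)
    have hmem := mask_testBit (allLt_sound h n n.isLt)
    have := span_fix prev [0] hfix (fun x hx => by
      rw [List.mem_singleton.mp hx, vec_zero, Matrix.mulVec_zero]) n hmem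
    rw [Matrix.one_mulVec, ← hn]
    exact this
  | cons l r ih =>
    obtain ⟨b, idx, paths⟩ := l
    intro prev h hlt M hM hfix
    simp only [vchainOK, Bool.and_eq_true, List.all_eq_true, Nat.blt_eq] at h
    obtain ⟨⟨⟨⟨⟨hb, hokb⟩, hnp⟩, hidx⟩, hcov⟩, hrest⟩ := h
    obtain ⟨w, hw⟩ := hsurj (M *ᵥ vec ix b)
    have hokw : ok w = true := hok M hM b w hb w.isLt hw hokb
    have hcand : (ok w && prev.all fun p => (B p w == B p b) && !Nat.beq w p) = true := by
      simp only [hokw, Bool.true_and, List.all_eq_true, Bool.and_eq_true, beq_iff_eq,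
        Bool.not_eq_true', ← Bool.not_eq_true, Nat.beq_eq]
      refine fun p hp => ⟨hB M hM p b p w (hlt p hp) hb (hlt p hp) w.isLt (hfix p hp).symm hw, ?_⟩
      intro e
      have h1 := hnp p hp
      simp only [Bool.not_eq_true', ← Bool.not_eq_true, Nat.beq_eq] at h1
      have h2 : M *ᵥ vec ix b = M *ᵥ vec ix p := by rw [← hw, e, hfix p hp]
      have h3 := hinj M hM h2
      exact h1 (hvinj b p hb (hlt p hp) h3)
    obtain ⟨path, -, hpe⟩ := List.mem_map.mp (coverB_mem hcov w.isLt hcand)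
    have hstep : ∀ c ∈ idx.map (fun i => cs.getD i []), Mx ix c ∈ S ∧ (∀ k, c.getD k 0 < 64) ∧
        ∀ p ∈ prev, Mx ix c *ᵥ vec ix p = vec ix p := by
      intro c hc
      obtain ⟨i, hi, rfl⟩ := List.mem_map.mp hc
      obtain ⟨hil, hifix⟩ := hidx i hi
      have hc' : cs.getD i [] ∈ cs := by
        rw [List.getD_eq_getElem _ _ hil]; exact List.getElem_mem _
      refine ⟨(hgen _ hc').1, (hgen _ hc').2, fun p hp => ?_⟩
      rw [← (hlin _ p (hlt p hp)).1, Nat.eq_of_beq_eq_true (hifix p hp)]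
    obtain ⟨K, hK, hKp, hKe⟩ := exists_apath hlin (prev := prev) _ hstep path b hb
    rw [hpe] at hKe
    -- the inverse of the path lies in the monoid as it is finite
    obtain ⟨K', hK', hKK'⟩ := exists_left_inverse hinjS hK
    obtain ⟨K2, hK2, hK2e⟩ := ih (b :: prev) hrest
      (fun p hp => (List.mem_cons.mp hp).elim (fun e => e ▸ hb) (hlt p)) (K' * M) (hS K' hK' M hM)
      (fun p hp => by
        rw [← Matrix.mulVec_mulVec]
        rcases List.mem_cons.mp hp with rfl | hp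
        · rw [← hw, hKe, Matrix.mulVec_mulVec, hKK', Matrix.one_mulVec]
        · rw [hfix p hp]
          conv_lhs => rw [← hKp p hp, Matrix.mulVec_mulVec, hKK', Matrix.one_mulVec])
    exact ⟨K2 * K', mul_mem hK2 hK', by rw [mul_assoc]; exact hK2e⟩

end Cfsg.Agent.H39.Fi22Invol
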